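import Cfsg.Agent.Lib.Char.Complete
import Cfsg.Agent.Lib.Char.AbelianInertia

/-!
# Constituents of a character which restricts to an abelian subgroup as the regular character minus one
-/

set_option autoImplicit false
set_option linter.all false

namespace CfsgLib.Recog.RankThree

open Subgroup CfsgLib.Char
open scoped ComplexConjugate

variable {G : Type*} [Group G] [Finite G] [Fintype (Cfsg.IrrCharacter G)]

open scoped Classical in
theorem restrict_facts (H : Subgroup G) [Fintype H] (hab : ∀ a b : H, a * b = b * a)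
    (m : Cfsg.IrrCharacter G → ℕ)
    (h1 : ∑ θ, (m θ : ℂ) * (θ : G → ℂ) 1 = (Nat.card H : ℂ) - 1)
    (hh : ∀ h : H, h ≠ 1 → ∑ θ, (m θ : ℂ) * (θ : G → ℂ) h = -1)
    {θ : Cfsg.IrrCharacter G} (hθ : m θ ≠ 0) :
    (∑ h : H, (θ : G → ℂ) h = 0) ∧
      (∑ h : H, (θ : G → ℂ) h * conj ((θ : G → ℂ) h) = (Nat.card H : ℂ) * (θ : G → ℂ) 1) ∧
      ∀ θ' : Cfsg.IrrCharacter G, m θ' ≠ 0 → θ' ≠ θ →
        ∑ h : H, (θ : G → ℂ) h * conj ((θ' : G → ℂ) h) = 0 := by
  haveI := Fintype.ofFinite (Cfsg.IrrCharacter H)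
  choose a ha using fun φ : Cfsg.IrrCharacter G =>
    IsChar.exists_sum (IsChar.restrict H (IsIrr.isCharacter φ.2))
  have hval : ∀ (φ : Cfsg.IrrCharacter G) (h : H),
      (φ : G → ℂ) h = (∑ l, (a φ l : ℂ) • (l : H → ℂ)) h := fun φ h => congrFun (ha φ) h
  have hcard : (Nat.card H : ℂ) ≠ 0 := Nat.cast_ne_zero.2 Nat.card_pos.ne'
  have hinner : ∀ (φ : Cfsg.IrrCharacter G) (l : Cfsg.IrrCharacter H),
      ∑ h : H, (φ : G → ℂ) h * conj ((l : H → ℂ) h) = (Nat.card H : ℂ) * (a φ l : ℂ) := by
    intro φ l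
    have h := classInner_sum_irr (fun ψ => (a φ ψ : ℂ)) l
    rw [Cfsg.classInner, inv_mul_eq_iff_eq_mul₀ hcard] at h
    rw [← h]
    exact Finset.sum_congr rfl fun x _ => by rw [hval]
  have hsumlam : ∀ l : Cfsg.IrrCharacter H, ∑ φ, m φ * a φ l = if l = trivChar H then 0 else 1 := by
    intro l
    have hl1 : (l : H → ℂ) 1 = 1 := CfsgLib.Clifford.apply_one_eq_one_of_commute hab l
    have hl0 : ∑ h : H, conj ((l : H → ℂ) h) =
        (Nat.card H : ℂ) * if trivChar H = l then 1 else 0 := by
      have h := classInner_irr (trivChar H) l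
      rw [Cfsg.classInner, inv_mul_eq_iff_eq_mul₀ hcard] at h
      rw [← h]
      simp [trivChar_apply]
    have key : (Nat.card H : ℂ) * ∑ φ, (m φ : ℂ) * (a φ l : ℂ) =
        (Nat.card H : ℂ) * (if l = trivChar H then 0 else 1) := by
      calc (Nat.card H : ℂ) * ∑ φ, (m φ : ℂ) * (a φ l : ℂ)
          = ∑ φ, (m φ : ℂ) * ∑ h : H, (φ : G → ℂ) h * conj ((l : H → ℂ) h) := by
            rw [Finset.mul_sum]
            exact Finset.sum_congr rfl fun φ _ => by rw [hinner]; ring
        _ = ∑ h : H, (∑ φ, (m φ : ℂ) * (φ : G → ℂ) h) * conj ((l : H → ℂ) h) := by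
            simp only [Finset.mul_sum, Finset.sum_mul]
            rw [Finset.sum_comm]
            exact Finset.sum_congr rfl fun h _ => Finset.sum_congr rfl fun φ _ => by ring
        _ = ∑ h : H, (-(conj ((l : H → ℂ) h)) + if h = 1 then (Nat.card H : ℂ) else 0) := by
            refine Finset.sum_congr rfl fun h _ => ?_
            by_cases e : h = 1
            · subst e
              rw [if_pos rfl, OneMemClass.coe_one, h1, hl1, map_one]; ring
            · rw [if_neg e, hh h e]; ring
        _ = _ := by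
            rw [Finset.sum_add_distrib, Finset.sum_neg_distrib, hl0, Finset.sum_ite_eq' Finset.univ (1 : H),
              if_pos (Finset.mem_univ _)]
            by_cases e : l = trivChar H
            · subst e; simp
            · rw [if_neg e, if_neg (Ne.symm e)]; ring
    have := mul_left_cancel₀ hcard key
    exact_mod_cast this
  have hle : ∀ φ l, m φ ≠ 0 → a φ l ≤ 1 ∧ (l = trivChar H → a φ l = 0) := by
    intro φ l hm
    have hs : m φ * a φ l ≤ ∑ ψ, m ψ * a ψ l :=
      Finset.single_le_sum (f := fun ψ => m ψ * a ψ l) (fun _ _ => Nat.zero_le _) (Finset.mem_univ φ)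
    rw [hsumlam l] at hs
    have h2 : a φ l ≤ m φ * a φ l := Nat.le_mul_of_pos_left _ (Nat.pos_of_ne_zero hm)
    refine ⟨by split_ifs at hs <;> omega, fun e => ?_⟩
    rw [if_pos e] at hs
    omega
  have hdeg : ((θ : G → ℂ) 1) = ∑ l, (a θ l : ℂ) := by
    rw [← OneMemClass.coe_one H, hval, Finset.sum_apply]
    simp [CfsgLib.Clifford.apply_one_eq_one_of_commute hab]
  refine ⟨?_, ?_, fun θ' hθ' hne => ?_⟩
  · have h := hinner θ (trivChar H)
    rw [(hle θ _ hθ).2 rfl] at h
    simpa [trivChar_apply] using h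
  · rw [hdeg, Finset.mul_sum]
    calc ∑ h : H, (θ : G → ℂ) h * conj ((θ : G → ℂ) h)
        = ∑ l, (a θ l : ℂ) * ∑ h : H, (θ : G → ℂ) h * conj ((l : H → ℂ) h) := by
          simp only [Finset.mul_sum]
          rw [Finset.sum_comm]
          refine Finset.sum_congr rfl fun h _ => ?_
          conv_lhs => arg 2; rw [hval, Finset.sum_apply, map_sum]
          rw [Finset.mul_sum]
          exact Finset.sum_congr rfl fun l _ => by rw [Pi.smul_apply, smul_eq_mul, map_mul, map_natCast]; ring
      _ = _ := Finset.sum_congr rfl fun l _ => by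
          rw [hinner]
          have := (hle θ l hθ).1
          interval_cases a θ l <;> simp
  · calc ∑ h : H, (θ : G → ℂ) h * conj ((θ' : G → ℂ) h)
        = ∑ l, (a θ' l : ℂ) * ∑ h : H, (θ : G → ℂ) h * conj ((l : H → ℂ) h) := by
          simp only [Finset.mul_sum]
          rw [Finset.sum_comm]
          refine Finset.sum_congr rfl fun h _ => ?_
          conv_lhs => arg 2; rw [hval, Finset.sum_apply, map_sum]
          rw [Finset.mul_sum]
          exact Finset.sum_congr rfl fun l _ => by rw [Pi.smul_apply, smul_eq_mul, map_mul, map_natCast]; ring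
      _ = 0 := Finset.sum_eq_zero fun l _ => by
          rw [hinner]
          have h2 : m θ * a θ l + m θ' * a θ' l ≤ ∑ ψ, m ψ * a ψ l := by
            rw [← Finset.sum_pair (f := fun ψ => m ψ * a ψ l) (Ne.symm hne)]
            exact Finset.sum_le_sum_of_subset_of_nonneg (Finset.subset_univ _) fun _ _ _ => Nat.zero_le _
          have h3 : a θ l + a θ' l ≤ m θ * a θ l + m θ' * a θ' l :=
            Nat.add_le_add (Nat.le_mul_of_pos_left _ (Nat.pos_of_ne_zero hθ))
              (Nat.le_mul_of_pos_left _ (Nat.pos_of_ne_zero hθ'))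
          rw [hsumlam l] at h2
          rcases Nat.eq_zero_or_pos (a θ' l) with e | e
          · rw [e]; simp
          · have : a θ l = 0 := by split_ifs at h2 <;> omega
            rw [this]; simp

end CfsgLib.Recog.RankThree
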