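import Cfsg.Agent.Lib.Recog.RankThree.CC
import Cfsg.Agent.Lib.Recog.RankThree.Restrict
import Cfsg.Agent.Lib.Char.Perm
import Cfsg.Agent.Lib.Char.Coprime

/-!
# An element whose class is a regular orbit of an abelian CC Hall subgroup

Such an element commutes with none of its other conjugates: every nontrivial constituent of the permutation
character on the cosets of its centraliser has degree prime to the class size, so vanishes at it.
-/

set_option autoImplicit false
set_option linter.all false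
set_option maxHeartbeats 800000

namespace CfsgLib.Recog.RankThree

open Subgroup
open CfsgLib.Recog.ClassSizesPSL (cI cC)
open CfsgLib.Char
open scoped ComplexConjugate

variable {G : Type*} [Group G] [Fintype G] {H : Subgroup G}

/-- The elements conjugate into `H \ {1}`. -/
noncomputable def tiUnion (H : Subgroup G) : Finset G :=
  by classical exact Finset.univ.filter fun g => g ≠ 1 ∧ ∃ q : G, q⁻¹ * g * q ∈ H

/-- The remaining nontrivial elements. -/
noncomputable def tiRest (H : Subgroup G) : Finset G :=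
  by classical exact Finset.univ.filter fun g => g ≠ 1 ∧ ¬ ∃ q : G, q⁻¹ * g * q ∈ H

theorem sum_split (H : Subgroup G) (f : G → ℂ) :
    ∑ g, f g = f 1 + ∑ g ∈ tiUnion H, f g + ∑ g ∈ tiRest H, f g := by
  classical
  rw [← Finset.add_sum_erase _ _ (Finset.mem_univ (1 : G)), add_assoc,
    ← Finset.sum_filter_add_sum_filter_not (Finset.univ.erase (1 : G)) (fun g => ∃ q : G, q⁻¹ * g * q ∈ H)]
  congr 2 <;>
    (refine Finset.sum_congr ?_ fun _ _ => rfl; ext g; simp [tiUnion, tiRest])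

theorem sum_tiUnion (hH : IsCCHall H) [Fintype H] (f : G → ℂ) (hf : Cfsg.IsClassFunction G f) :
    (H.relIndex (normalizer (H : Set G)) : ℂ) * ∑ g ∈ tiUnion H, f g =
      (H.index : ℂ) * ((∑ h : H, f h) - f 1) := by
  classical
  set N := normalizer (H : Set G)
  set S := (Finset.univ : Finset H).erase 1 with hS
  have hSsum : ∑ h ∈ S, f h = (∑ h : H, f h) - f 1 := by
    rw [hS, ← Finset.add_sum_erase (Finset.univ : Finset H) (fun h : H => f h) (Finset.mem_univ 1)]
    simp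
  have hmap : ∀ p ∈ (Finset.univ : Finset G) ×ˢ S, p.1 * (p.2 : G) * p.1⁻¹ ∈ tiUnion H := by
    rintro ⟨q, h⟩ hp
    simp only [Finset.mem_product, Finset.mem_univ, true_and, hS, Finset.mem_erase, and_true] at hp
    simp only [tiUnion, Finset.mem_filter, Finset.mem_univ, true_and]
    refine ⟨fun e => hp (Subtype.ext (conj_eq_one_iff.1 e)), q, ?_⟩
    rw [show q⁻¹ * (q * (h : G) * q⁻¹) * q = (h : G) by group]
    exact h.2
  have hfib : ∀ g ∈ tiUnion H,
      (((Finset.univ : Finset G) ×ˢ S).filter fun p => p.1 * (p.2 : G) * p.1⁻¹ = g).card = Nat.card N := by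
    intro g hg
    simp only [tiUnion, Finset.mem_filter, Finset.mem_univ, true_and] at hg
    obtain ⟨hg1, q₀, hq₀⟩ := hg
    have hh1 : q₀⁻¹ * g * q₀ ≠ 1 := fun e => hg1 (by
      calc g = q₀ * (q₀⁻¹ * g * q₀) * q₀⁻¹ := by group
        _ = 1 := by rw [e]; group)
    rw [Nat.card_eq_fintype_card, ← Finset.card_univ]
    refine Finset.card_bij' (fun p hp => (⟨q₀⁻¹ * p.1, ?_⟩ : N))
      (fun n _ => (q₀ * (n : G), (⟨(n : G)⁻¹ * (q₀⁻¹ * g * q₀) * n, hH.inv_conj_mem n.2 hq₀⟩ : H)))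
      (fun _ _ => Finset.mem_univ _) (fun n _ => ?_) (fun p hp => ?_) (fun n _ => ?_)
    · simp only [Finset.mem_filter] at hp
      refine hH.ti hq₀ hh1 ?_
      rw [show (q₀⁻¹ * p.1)⁻¹ * (q₀⁻¹ * g * q₀) * (q₀⁻¹ * p.1) = p.1⁻¹ * g * p.1 by group, ← hp.2,
        show p.1⁻¹ * (p.1 * (p.2 : G) * p.1⁻¹) * p.1 = (p.2 : G) by group]
      exact p.2.2
    · simp only [Finset.mem_filter, Finset.mem_product, Finset.mem_univ, true_and, hS, Finset.mem_erase,
        and_true]
      refine ⟨fun e => hh1 ?_, by group⟩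
      have e' : (n : G)⁻¹ * (q₀⁻¹ * g * q₀) * n = 1 := congrArg Subtype.val e
      calc q₀⁻¹ * g * q₀ = (n : G) * ((n : G)⁻¹ * (q₀⁻¹ * g * q₀) * n) * (n : G)⁻¹ := by group
        _ = 1 := by rw [e']; group
    · simp only [Finset.mem_filter] at hp
      refine Prod.ext (by simp [← mul_assoc]) (Subtype.ext ?_)
      show (q₀⁻¹ * p.1)⁻¹ * (q₀⁻¹ * g * q₀) * (q₀⁻¹ * p.1) = (p.2 : G)
      rw [← hp.2]; group
    · exact Subtype.ext (by simp [← mul_assoc])
  have h1 : ∑ p ∈ (Finset.univ : Finset G) ×ˢ S, f (p.1 * (p.2 : G) * p.1⁻¹) =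
      (Nat.card G : ℂ) * ((∑ h : H, f h) - f 1) := by
    rw [Finset.sum_product, ← hSsum]
    simp only [hf _ _]
    rw [Finset.sum_const, Finset.card_univ, nsmul_eq_mul, Nat.card_eq_fintype_card]
  have h2 : ∑ p ∈ (Finset.univ : Finset G) ×ˢ S, f (p.1 * (p.2 : G) * p.1⁻¹) =
      (Nat.card N : ℂ) * ∑ g ∈ tiUnion H, f g := by
    rw [← Finset.sum_fiberwise_of_maps_to (t := tiUnion H) (g := fun p : G × H => p.1 * (p.2 : G) * p.1⁻¹) hmap,
      Finset.mul_sum]
    refine Finset.sum_congr rfl fun g hg => ?_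
    rw [Finset.sum_congr rfl (g := fun _ => f g) fun p hp => by rw [(Finset.mem_filter.1 hp).2],
      Finset.sum_const, nsmul_eq_mul, hfib g hg]
  have hN : Nat.card N = Nat.card H * H.relIndex N := by
    rw [relIndex, ← (H.subgroupOf N).card_mul_index,
      Nat.card_congr (subgroupOfEquivOfLe (le_normalizer : H ≤ N)).toEquiv]
  have h3 := h2.symm.trans h1
  rw [hN, ← H.card_mul_index, Nat.cast_mul, Nat.cast_mul, mul_assoc, mul_assoc] at h3
  exact mul_left_cancel₀ (Nat.cast_ne_zero.2 Nat.card_pos.ne') h3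

theorem tiUnion_integral (hH : IsCCHall H) (χ : Cfsg.IrrCharacter G) :
    ∃ A : ℂ, IsIntegral ℤ A ∧ ∑ g ∈ tiUnion H, (χ : G → ℂ) g = (H.index : ℂ) * A := by
  classical
  obtain ⟨n, ρ, hρ, hc⟩ := χ.2
  refine ⟨∑ C ∈ (tiUnion H).image ConjClasses.mk, (χ : G → ℂ) C.out, IsIntegral.sum _ fun C _ => ?_, ?_⟩
  · rw [← hc]; exact CfsgLib.CharIntegral.isIntegral_character ρ _
  rw [← Finset.sum_fiberwise_of_maps_to (t := (tiUnion H).image ConjClasses.mk) (g := ConjClasses.mk)
    (fun g hg => Finset.mem_image_of_mem _ hg), Finset.mul_sum]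
  refine Finset.sum_congr rfl fun C hC => ?_
  obtain ⟨g, hg, rfl⟩ := Finset.mem_image.1 hC
  have hfilter : (tiUnion H).filter (fun y => ConjClasses.mk y = ConjClasses.mk g) =
      (ConjClasses.mk g).carrier.toFinset := by
    ext y
    simp only [Finset.mem_filter, Set.mem_toFinset, ConjClasses.mem_carrier_iff_mk_eq]
    refine ⟨fun h => h.2, fun h => ⟨?_, h⟩⟩
    obtain ⟨r, rfl⟩ := isConj_iff.1 (ConjClasses.mk_eq_mk_iff_isConj.1 h.symm)
    simp only [tiUnion, Finset.mem_filter, Finset.mem_univ, true_and] at hg ⊢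
    obtain ⟨hg1, q, hq⟩ := hg
    exact ⟨fun e => hg1 (conj_eq_one_iff.1 e), r * q, by convert hq using 1; group⟩
  have hconst : ∀ y ∈ (ConjClasses.mk g).carrier.toFinset,
      (χ : G → ℂ) y = (χ : G → ℂ) (ConjClasses.mk g).out := by
    intro y hy
    rw [Set.mem_toFinset, ConjClasses.mem_carrier_iff_mk_eq] at hy
    obtain ⟨r, hr⟩ := isConj_iff.1 (ConjClasses.mk_eq_mk_iff_isConj.1
      (show ConjClasses.mk (ConjClasses.mk g).out = ConjClasses.mk y by
        rw [hy]; exact Quotient.out_eq _))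
    rw [← hr]
    exact IsIrr.isClassFunction χ.2 _ r
  rw [hfilter, Finset.sum_congr rfl hconst, Finset.sum_const, nsmul_eq_mul]
  congr 2
  rw [Set.toFinset_card, ← Nat.card_eq_fintype_card, card_carrier_eq_index]
  simp only [tiUnion, Finset.mem_filter, Finset.mem_univ, true_and] at hg
  obtain ⟨hg1, q, hq⟩ := hg
  have h1 : q⁻¹ * g * q ≠ 1 := fun e => hg1 (by
    calc g = q * (q⁻¹ * g * q) * q⁻¹ := by group
      _ = 1 := by rw [e]; group)
  have h2 := ClassSizesPSL.cI_conj q (q⁻¹ * g * q)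
  rw [show q * (q⁻¹ * g * q) * q⁻¹ = g by group] at h2
  show cI g = H.index
  rw [h2]
  exact congrArg Subgroup.index (hH.cent _ hq h1)

theorem rest_sum (hH : IsCCHall H) [Fintype H] (χ ψ : Cfsg.IrrCharacter G) {d d' : ℕ}
    (hd : (χ : G → ℂ) 1 = d) (hd' : (ψ : G → ℂ) 1 = d') {z w : ℂ}
    (hz : ∑ h : H, (χ : G → ℂ) h * conj ((ψ : G → ℂ) h) = z)
    (hw : Cfsg.classInner (χ : G → ℂ) (ψ : G → ℂ) = w) :
    (H.relIndex (normalizer (H : Set G)) : ℂ) *
        ∑ g ∈ tiRest H, (χ : G → ℂ) g * conj ((ψ : G → ℂ) g) =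
      (H.relIndex (normalizer (H : Set G)) : ℂ) * (Nat.card G * w) -
        (H.relIndex (normalizer (H : Set G)) : ℂ) * (d * d') - (H.index : ℂ) * (z - d * d') := by
  have hcf : Cfsg.IsClassFunction G (fun g => (χ : G → ℂ) g * conj ((ψ : G → ℂ) g)) := fun g h => by
    simp only [IsIrr.isClassFunction χ.2 g h, IsIrr.isClassFunction ψ.2 g h]
  have hU := sum_tiUnion hH _ hcf
  have hG := sum_split H (fun g => (χ : G → ℂ) g * conj ((ψ : G → ℂ) g))
  rw [Cfsg.classInner, inv_mul_eq_iff_eq_mul₀ (Nat.cast_ne_zero.2 Nat.card_pos.ne')] at hw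
  simp only [hd, hd', map_natCast, hz] at hU hG
  rw [hw] at hG
  linear_combination -(H.relIndex (normalizer (H : Set G)) : ℂ) * hG - hU

variable [IsSimpleGroup G] (hna : ¬ IsMulCommutative G)
include hna

/-- `x` commutes with none of its other conjugates. -/
theorem fixed_unique (hH : IsCCHall H) {x : G} (hx : x ≠ 1) (hxn : cI x = Nat.card H) (g : G)
    (hc : Commute x (g * x * g⁻¹)) : g * x * g⁻¹ = x := by
  classical
  haveI : Fintype H := Fintype.ofFinite _
  set K := centralizer ({x} : Set G)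
  haveI := Fintype.ofFinite (Cfsg.IrrCharacter G)
  set n1 := Nat.card H with hn1
  set n3 := H.index with hn3
  set e := H.relIndex (normalizer (H : Set G)) with he
  have hG : n1 * n3 = Nat.card G := H.card_mul_index
  have hKidx : K.index = n1 := hxn
  have hKcard : Nat.card K = n3 := by
    have h := K.card_mul_index
    rw [hKidx, ← hG, mul_comm] at h
    exact Nat.eq_of_mul_eq_mul_left Nat.card_pos h
  have h1n1 : 1 < n1 := one_lt_card_iff_ne_bot H |>.2 hH.ne_bot
  -- the permutation character on the cosets of `K`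
  have hfix : ∀ (a : G) (c : G ⧸ K), a • c = c → c.out⁻¹ * a * c.out ∈ K := fun a c h => by
    rw [← QuotientGroup.out_eq' c, MulAction.Quotient.smul_mk, QuotientGroup.eq] at h
    have h' := inv_mem h
    simpa [smul_eq_mul, mul_assoc] using h'
  have hπ1 : permChar G (G ⧸ K) 1 = (n1 : ℂ) := by
    rw [permChar, ← hKidx, index]
    congr 1
    exact Nat.card_congr (Equiv.subtypeUnivEquiv (fun c => one_smul G c))
  have hπh : ∀ h : H, h ≠ 1 → permChar G (G ⧸ K) h = 0 := by
    intro h hh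
    rw [permChar, Nat.cast_eq_zero, Nat.card_eq_zero]
    refine Or.inl ⟨fun ⟨c, hc⟩ => hh (Subtype.ext (orderOf_eq_one_iff.1 ?_))⟩
    have h1 : orderOf (h : G) ∣ n3 := by
      have := Subgroup.orderOf_dvd_natCard K (hfix _ c hc)
      rw [hKcard, show c.out⁻¹ * (h : G) * c.out = c.out⁻¹ * (h : G) * c.out⁻¹⁻¹ by group,
        CfsgLib.Signalizer.orderOf_conj] at this
      exact this
    exact Nat.Coprime.eq_one_of_dvd (hH.hall.coprime_dvd_left (Subgroup.orderOf_dvd_natCard H h.2)) h1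
  haveI : MulAction.IsPretransitive G (G ⧸ K) := inferInstance
  obtain ⟨m, hm⟩ := IsChar.exists_sum (isCharacter_permChar_sub_one (G := G) (X := G ⧸ K))
  have hm' : ∀ a, permChar G (G ⧸ K) a - 1 = ∑ θ, (m θ : ℂ) * (θ : G → ℂ) a := fun a => by
    rw [congrFun hm a, Finset.sum_apply]; simp
  have h1 : ∑ θ, (m θ : ℂ) * (θ : G → ℂ) 1 = (n1 : ℂ) - 1 := by rw [← hm', hπ1]
  have hh : ∀ h : H, h ≠ 1 → ∑ θ, (m θ : ℂ) * (θ : G → ℂ) h = -1 := fun h hh => by
    rw [← hm', hπh h hh]; ring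
  have hab : ∀ a b : H, a * b = b * a := fun a b => Subtype.ext (hH.commute a.2 b.2)
  -- degrees
  choose d hd0 hd using fun θ : Cfsg.IrrCharacter G => IsIrr.exists_degree θ.2
  have hfacts := fun θ (hθ : m θ ≠ 0) => restrict_facts H hab m h1 hh (θ := θ) hθ
  have hepos : 0 < e := Nat.pos_of_ne_zero fun h => index_ne_zero_of_finite (H := H) (by
    rw [← relIndex_mul_index (le_normalizer : H ≤ normalizer (H : Set G)), ← he, h, zero_mul])
  have hlt : e < n3 := by
    rw [hn3, ← relIndex_mul_index (le_normalizer : H ≤ normalizer (H : Set G)), ← he]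
    exact lt_mul_of_one_lt_right hepos (one_lt_index_of_ne_top (hH.normalizer_ne_top hna))
  have hdvd : ∀ θ, m θ ≠ 0 → e ∣ d θ := by
    intro θ hθ
    obtain ⟨A, hA, hAsum⟩ := tiUnion_integral hH θ
    have hU := sum_tiUnion hH _ (IsIrr.isClassFunction θ.2)
    rw [hAsum, (hfacts θ hθ).1, hd] at hU
    refine CfsgLib.CharIntegral.dvd_of_isIntegral_div hepos.ne' ?_
    have h' : (e : ℂ) * A = -(d θ : ℂ) :=
      mul_left_cancel₀ (Nat.cast_ne_zero.2 (index_ne_zero_of_finite (H := H)))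
        (show (n3 : ℂ) * ((e : ℂ) * A) = (n3 : ℂ) * -(d θ : ℂ) by linear_combination hU)
    rw [show (d θ : ℂ) / (e : ℂ) = -A by
      rw [div_eq_iff (Nat.cast_ne_zero.2 hepos.ne')]; linear_combination h']
    exact hA.neg
  have hsumd : ∑ θ, m θ * d θ = n1 - 1 := by
    have h : ((∑ θ, m θ * d θ : ℕ) : ℂ) + 1 = (n1 : ℂ) := by
      push_cast
      have := h1
      simp only [hd] at this
      linear_combination this
    have h' : (∑ θ, m θ * d θ) + 1 = n1 := by exact_mod_cast h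
    omega
  obtain ⟨k, hk⟩ : e ∣ n1 - 1 := hsumd ▸ Finset.dvd_sum fun θ _ => by
    by_cases hθ : m θ = 0
    · simp [hθ]
    · exact (hdvd θ hθ).mul_left _
  -- norms on the rest
  set R : Cfsg.IrrCharacter G → ℝ := fun θ => ∑ a ∈ tiRest H, ‖(θ : G → ℂ) a‖ ^ 2
  have hR : ∀ θ, m θ ≠ 0 → (e : ℝ) * R θ = (e : ℝ) * ((n1 : ℝ) * n3) - (e : ℝ) * ((d θ : ℝ) * d θ) -
      (n3 : ℝ) * ((n1 : ℝ) * d θ - (d θ : ℝ) * d θ) := by
    intro θ hθ
    have h := rest_sum hH θ θ (hd θ) (hd θ) (hd θ ▸ (hfacts θ hθ).2.1) (classInner_irr_self θ)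
    rw [← hG] at h
    have hc : ((R θ : ℝ) : ℂ) = ∑ a ∈ tiRest H, (θ : G → ℂ) a * conj ((θ : G → ℂ) a) := by
      simp only [R, Complex.ofReal_sum, Complex.ofReal_pow]
      exact Finset.sum_congr rfl fun a _ => (Complex.mul_conj' _).symm
    rw [← hc] at h
    apply Complex.ofReal_injective
    push_cast
    push_cast at h
    linear_combination h
  have hRpos : ∀ θ, 0 ≤ R θ := fun θ => Finset.sum_nonneg fun a _ => sq_nonneg _
  have he' : (0 : ℝ) < e := by exact_mod_cast hepos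
  have hlt' : (e : ℝ) < n3 := by exact_mod_cast hlt
  have hn3' : (0 : ℝ) < n3 := lt_trans he' hlt'
  have hn1' : (0 : ℝ) < n1 := by exact_mod_cast lt_trans one_pos h1n1
  have hkn : (n1 : ℝ) = (k : ℝ) * e + 1 := by
    have : n1 = k * e + 1 := by rw [mul_comm, ← hk]; omega
    exact_mod_cast this
  -- every constituent has degree prime to `n1`
  have hcop : ∀ θ, m θ ≠ 0 → Nat.Coprime (d θ) n1 := by
    intro θ hθ
    obtain ⟨a, ha⟩ := hdvd θ hθ
    have ha1 : 1 ≤ a := Nat.pos_of_ne_zero fun h => by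
      rw [h, mul_zero] at ha
      exact (hd0 θ).ne' ha
    have hak : a ≤ k := by
      have h : m θ * d θ ≤ n1 - 1 := hsumd ▸
        Finset.single_le_sum (f := fun φ => m φ * d φ) (fun _ _ => Nat.zero_le _) (Finset.mem_univ θ)
      rw [hk, ha] at h
      have h' : e * a ≤ m θ * (e * a) := Nat.le_mul_of_pos_left _ (Nat.pos_of_ne_zero hθ)
      exact Nat.le_of_mul_le_mul_left (h'.trans h) hepos
    have hne : n1 = e * k + 1 := by omega
    have hcases : a = 1 ∨ a = k ∨ a + 1 = k := by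
      by_contra hcon
      push Not at hcon
      have h2 : (2 : ℝ) ≤ a := by exact_mod_cast (show 2 ≤ a by omega)
      have h3 : (a : ℝ) + 2 ≤ k := by exact_mod_cast (show a + 2 ≤ k by omega)
      have hrθ : 0 ≤ (e : ℝ) * R θ := mul_nonneg he'.le (hRpos θ)
      rw [hR θ hθ, show (d θ : ℝ) = (e : ℝ) * a by exact_mod_cast ha, hkn] at hrθ
      have hb : (0 : ℝ) ≤ ((a : ℝ) - 1) * ((k : ℝ) - a - 1) - 1 := by nlinarith
      have key : (e : ℝ) * (((k : ℝ) * e + 1) * n3) <
          (n3 : ℝ) * (((k : ℝ) * e + 1) * (e * a) - e * a * (e * a)) := by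
        have h5 : 0 < (n3 : ℝ) * e * ((a : ℝ) - 1) := mul_pos (mul_pos hn3' he') (by linarith)
        nlinarith [mul_nonneg (mul_nonneg hn3'.le (mul_nonneg he'.le he'.le)) hb]
      nlinarith [mul_nonneg he'.le (mul_self_nonneg ((e : ℝ) * a))]
    rcases hcases with rfl | rfl | hak1
    · rw [ha, hne, mul_one]
      exact Nat.coprime_mul_left_add_right _ _ _ |>.2 (Nat.coprime_one_right _)
    · rw [ha, hne]
      exact Nat.coprime_self_add_right.2 (Nat.coprime_one_right _)
    by_cases hk2 : k ≤ 2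
    · have : a = 1 := by omega
      subst this
      rw [ha, hne, mul_one]
      exact Nat.coprime_mul_left_add_right _ _ _ |>.2 (Nat.coprime_one_right _)
    exfalso
    -- the other constituent has degree `e`
    have hm1 : m θ = 1 := by
      have h : m θ * d θ ≤ n1 - 1 := hsumd ▸
        Finset.single_le_sum (f := fun φ => m φ * d φ) (fun _ _ => Nat.zero_le _) (Finset.mem_univ θ)
      rw [hk, ha, mul_left_comm] at h
      have h' := Nat.le_of_mul_le_mul_left h hepos
      by_contra hm1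
      have : 2 * a ≤ m θ * a := Nat.mul_le_mul_right _ (by omega)
      omega
    have hrest : ∑ φ ∈ Finset.univ.erase θ, m φ * d φ = e := by
      have h := Finset.add_sum_erase Finset.univ (fun φ => m φ * d φ) (Finset.mem_univ θ)
      rw [hsumd, hk, hm1, one_mul, ha, ← hak1, mul_add, mul_one] at h
      omega
    obtain ⟨θ', hθ', hθ'0⟩ := Finset.exists_ne_zero_of_sum_ne_zero (hrest.trans_ne hepos.ne')
    have hm' : m θ' ≠ 0 := fun h => hθ'0 (by rw [h, zero_mul])
    have hne' : θ' ≠ θ := (Finset.mem_erase.1 hθ').1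
    have hd' : d θ' = e := by
      have h : m θ' * d θ' ≤ e := hrest ▸
        Finset.single_le_sum (f := fun φ => m φ * d φ) (fun _ _ => Nat.zero_le _) hθ'
      exact le_antisymm ((Nat.le_mul_of_pos_left _ (Nat.pos_of_ne_zero hm')).trans h)
        (Nat.le_of_dvd (hd0 θ') (hdvd θ' hm'))
    have h := rest_sum hH θ θ' (hd θ) (hd θ') ((hfacts θ hθ).2.2 θ' hm' hne') (classInner_irr_of_ne (Ne.symm hne'))
    set Z := ∑ a ∈ tiRest H, (θ : G → ℂ) a * conj ((θ' : G → ℂ) a)
    have hZ : (e : ℂ) * Z = (((d θ : ℝ) * d θ' * ((n3 : ℝ) - e) : ℝ) : ℂ) := by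
      push_cast
      linear_combination h
    have hnorm : (d θ : ℝ) * d θ' * ((n3 : ℝ) - e) = (e : ℝ) * ‖Z‖ := by
      have := congrArg (fun z : ℂ => ‖z‖) hZ
      simp only [norm_mul, Complex.norm_natCast, Complex.norm_real, Real.norm_eq_abs] at this
      rw [this, abs_of_nonneg (sub_nonneg.2 hlt'.le)]
      simp
    have hCS : ‖Z‖ ^ 2 ≤ R θ * R θ' := by
      refine le_trans (pow_le_pow_left₀ (norm_nonneg _) (norm_sum_le _ _) 2) ?_
      simp only [norm_mul, Complex.norm_conj]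
      exact Finset.sum_mul_sq_le_sq_mul_sq _ (fun a => ‖(θ : G → ℂ) a‖) (fun a => ‖(θ' : G → ℂ) a‖)
    set D : ℝ := (d θ : ℝ)
    have hD : (e : ℝ) < D := by
      have : e < d θ := by
        rw [ha]
        exact lt_mul_of_one_lt_right hepos (by omega)
      simp only [D]
      exact_mod_cast this
    have hd'R : (d θ' : ℝ) = e := by exact_mod_cast hd'
    rw [hd'R] at hnorm
    have hR' : (e : ℝ) * R θ' = (e : ℝ) ^ 2 * ((n3 : ℝ) - e) := by
      rw [hR θ' hm', hd'R]; ring
    have hbig : ((e : ℝ) * D) ^ 2 * ((n3 : ℝ) - e) ^ 2 ≤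
        ((e : ℝ) ^ 2 * ((n3 : ℝ) - e)) * ((e : ℝ) * R θ) := by
      calc ((e : ℝ) * D) ^ 2 * ((n3 : ℝ) - e) ^ 2 = ((e : ℝ) * ‖Z‖) ^ 2 := by rw [← hnorm]; ring
        _ ≤ (e : ℝ) ^ 2 * (R θ * R θ') := by rw [mul_pow]; exact mul_le_mul_of_nonneg_left hCS (sq_nonneg _)
        _ = _ := by rw [← hR']; ring
    have hsmall : D ^ 2 * ((n3 : ℝ) - e) ≤ (e : ℝ) * R θ := by
      refine le_of_mul_le_mul_left ?_ (mul_pos (pow_pos he' 2) (sub_pos.2 hlt'))
      calc (e : ℝ) ^ 2 * ((n3 : ℝ) - e) * (D ^ 2 * ((n3 : ℝ) - e))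
          = ((e : ℝ) * D) ^ 2 * ((n3 : ℝ) - e) ^ 2 := by ring
        _ ≤ _ := hbig
    rw [hR θ hθ] at hsmall
    nlinarith [mul_pos (mul_pos hn3' hn1') (sub_pos.2 hD)]
  -- they vanish at `x`
  have hzero : ∀ θ, m θ ≠ 0 → (θ : G → ℂ) x = 0 := by
    intro θ hθ
    obtain ⟨n, ρ, hρ, hc⟩ := θ.2
    have hfr : (Module.finrank ℂ (Fin n → ℂ) : ℕ) = d θ := by
      have h := hd θ
      rw [← hc, Representation.char_one] at h
      exact_mod_cast h
    rcases CfsgLib.CharIntegral.character_eq_zero_or_norm_eq ρ x (by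
      rw [hfr]; show Nat.Coprime (d θ) (cI x); rw [hxn]; exact hcop θ hθ) with h | h
    · rw [← hc]; exact h
    · exfalso
      obtain ⟨ω, hω⟩ := CfsgLib.CharIntegral.exists_scalar_of_norm_character_eq ρ x h
      rcases IsSimpleGroup.eq_bot_or_eq_top_of_normal (MonoidHom.ker ρ) inferInstance with hker | hker
      · refine notMem_center hna hx (mem_center_iff.2 fun y => ?_)
        refine (MonoidHom.ker_eq_bot_iff ρ).1 hker ?_
        rw [map_mul, map_mul, hω]
        exact LinearMap.ext fun v => map_smul (ρ y) ω v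
      · have hconst : ∀ a : H, (θ : G → ℂ) a = (d θ : ℂ) := fun a => by
          rw [← hd θ, ← hc, Representation.character, Representation.character,
            MonoidHom.mem_ker.1 (hker ▸ mem_top (a : G)), MonoidHom.mem_ker.1 (hker ▸ mem_top (1 : G))]
        have h0 := (hfacts θ hθ).1
        simp only [hconst, Finset.sum_const, Finset.card_univ, nsmul_eq_mul, mul_eq_zero, Nat.cast_eq_zero] at h0
        rcases h0 with h0 | h0
        · exact Fintype.card_ne_zero h0
        · exact (hd0 θ).ne' h0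
  have hπx : permChar G (G ⧸ K) x = 1 := by
    have h := hm' x
    rw [Finset.sum_eq_zero fun θ _ => by
      by_cases hθ : m θ = 0
      · simp [hθ]
      · simp [hzero θ hθ]] at h
    linear_combination h
  rw [permChar, Nat.cast_eq_one, Nat.card_eq_one_iff_unique] at hπx
  obtain ⟨hsub, -⟩ := hπx
  have hgfix : x • ((g : G) : G ⧸ K) = ((g : G) : G ⧸ K) := by
    rw [MulAction.Quotient.smul_mk, QuotientGroup.eq, smul_eq_mul, mem_centralizer_singleton_iff]
    have h2 : g⁻¹ * x * g * x = x * (g⁻¹ * x * g) := by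
      calc g⁻¹ * x * g * x = g⁻¹ * (x * (g * x * g⁻¹)) * g := by group
        _ = g⁻¹ * ((g * x * g⁻¹) * x) * g := by rw [hc.eq]
        _ = x * (g⁻¹ * x * g) := by group
    have h3 : Commute (g⁻¹ * x * g) x := h2
    rw [show (x * g)⁻¹ * g = (g⁻¹ * x * g)⁻¹ by group]
    exact h3.inv_left.eq
  have h1fix : x • ((1 : G) : G ⧸ K) = ((1 : G) : G ⧸ K) := by
    rw [MulAction.Quotient.smul_mk, QuotientGroup.eq, smul_eq_mul, mul_one, mul_one]
    exact inv_mem (mem_centralizer_singleton_iff.2 rfl)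
  have heq : ((g : G) : G ⧸ K) = ((1 : G) : G ⧸ K) :=
    congrArg Subtype.val (hsub.elim ⟨_, hgfix⟩ (⟨_, h1fix⟩ : MulAction.fixedBy (G ⧸ K) x))
  rw [QuotientGroup.eq, mul_one, inv_mem_iff, mem_centralizer_singleton_iff] at heq
  rw [heq, mul_inv_cancel_right]

end CfsgLib.Recog.RankThree
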