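import Cfsg.Agent.Lib.Recog.RankThree.ForkHall
import Cfsg.Agent.Lib.Recog.RankThree.Fixed
import Cfsg.Agent.Lib.Recog.ClassSizesPSL.Count

/-!
# Two comparable class sizes and one incomparable to both: impossible

An element `x` of size `n₁` commutes with none of its other conjugates, so every involution commutes with exactly one
of them. Noncommuting involutions invert a conjugate of the Hall subgroup `H`, and counting them shows that the
normaliser of `H` contains a Sylow 2-subgroup, which then has only one involution.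
-/

set_option autoImplicit false
set_option linter.all false

namespace CfsgLib.Recog.RankThree

open Subgroup
open CfsgLib.Recog.ClassSizesPSL (cI cC IsREl inverters invol)

variable {G : Type*} [Group G]

theorem IsCCHall.exists_conj_mem [Finite G] {H : Subgroup G} (hH : IsCCHall H) {g : G}
    (hg : ¬ (orderOf g).Coprime (Nat.card H)) : ∃ q : G, q * g * q⁻¹ ∈ H := by
  obtain ⟨p, hp, hpg, hpH⟩ := Nat.Prime.not_coprime_iff_dvd.1 hg
  haveI := Fact.mk hp
  set g' := g ^ (orderOf g / p)
  have hg'o : orderOf g' = p := orderOf_pow_orderOf_div (orderOf_pos g).ne' hpg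
  obtain ⟨S, hS⟩ := ClassSizesPSL.exists_sylow_le (r := p) (H := H)
    (fun hd => hp.not_dvd_one (hH.hall ▸ Nat.dvd_gcd hpH hd))
  obtain ⟨P, hP⟩ := (IsPGroup.of_card (n := 1) (by rw [Nat.card_zpowers, hg'o, pow_one]) :
    IsPGroup p (zpowers g')).exists_le_sylow
  obtain ⟨q, hq⟩ := MulAction.exists_smul_eq G P S
  have hmem : q * g' * q⁻¹ ∈ H := hS (by
    rw [← hq, Sylow.coe_subgroup_smul, mem_pointwise_smul_iff_inv_smul_mem,
      show (MulAut.conj q)⁻¹ • (q * g' * q⁻¹) = g' from by
        rw [MulAut.smul_def, MulAut.conj_inv_apply]; group]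
    exact hP (mem_zpowers g'))
  have hne : q * g' * q⁻¹ ≠ 1 := fun h => hp.ne_one (by rw [← hg'o, conj_eq_one_iff.1 h, orderOf_one])
  exact ⟨q, hH.mem_of_commute hmem hne ((Commute.self_pow g _).map (MulAut.conj q).toMonoidHom)⟩

namespace Fork

variable [Finite G] {n1 n2 n3 : ℕ} (F : Fork G n1 n2 n3) [IsSimpleGroup G] (hna : ¬ IsMulCommutative G)
  {H : Subgroup G} (hH : IsCCHall H) (hcard : Nat.card H = n1) (hidx : H.index = n3)
include F hna hH hcard hidx

theorem coprime_of_ne_three {g : G} (hg : g ≠ 1) (h : cI g ≠ n3) : (orderOf g).Coprime n1 := by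
  by_contra hc
  obtain ⟨q, hq⟩ := hH.exists_conj_mem (hcard.symm ▸ hc : ¬ (orderOf g).Coprime (Nat.card H))
  refine h ?_
  rw [← ClassSizesPSL.cI_conj q g]
  show (centralizer ({q * g * q⁻¹} : Set G)).index = n3
  rw [hH.cent _ hq (fun e => hg (conj_eq_one_iff.1 e)), hidx]

theorem unique {x : G} (hx : x ≠ 1) (hx1 : cI x = n1) (g : G) (hc : Commute x (g * x * g⁻¹)) :
    g * x * g⁻¹ = x := by
  haveI := Fintype.ofFinite G
  exact fixed_unique hna hH hx (hx1.trans hcard.symm) g hc

theorem involution_two {u : G} (hu : orderOf u = 2) : cI u = n2 := by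
  haveI : Fact (Nat.Prime 2) := ⟨Nat.prime_two⟩
  have hu1 : u ≠ 1 := Signalizer.involution_ne_one hu
  have hodd := F.odd_one hna
  rcases F.val u hu1 with e | e | e
  · exfalso
    obtain ⟨S, hS⟩ := ClassSizesPSL.exists_sylow_le (r := 2) (H := centralizer ({u} : Set G))
      (show ¬ 2 ∣ cI u by rw [e]; exact hodd.not_two_dvd_nat)
    have huS : u ∈ (S : Subgroup G) := by
      have hz : zpowers u ≤ normalizer ((S : Subgroup G) : Set G) := by
        rw [zpowers_le, mem_normalizer_iff]
        intro a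
        refine ⟨fun ha => ?_, fun ha => ?_⟩
        · rwa [(mem_centralizer_singleton_iff.1 (hS ha)).symm, mul_inv_cancel_right]
        · have h := mem_centralizer_singleton_iff.1 (hS ha)
          have h0 : u * a = u * (u * a * u⁻¹) := by rw [← h]; group
          have h1 := mul_left_cancel h0
          have h2 : u * a = a * u := by
            calc u * a = u * a * u⁻¹ * u := by group
              _ = a * u := by rw [← h1]
          rwa [h2, mul_inv_cancel_right] at ha
      have hsup : IsPGroup 2 ↥(zpowers u ⊔ (S : Subgroup G)) :=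
        (IsPGroup.of_card (n := 1) (by rw [Nat.card_zpowers, hu, pow_one])).to_sup_of_normal_right' S.2 hz
      exact (S.is_maximal' hsup le_sup_right) ▸ (le_sup_left : zpowers u ≤ _) (mem_zpowers u)
    refine not_isolated hna S hu huS fun g hg => F.unique hna hH hcard hidx hu1 e g ?_
    exact (show Commute (g * u * g⁻¹) u from mem_centralizer_singleton_iff.1 (hS hg)).symm
  · exact e
  · exfalso
    have h : Nat.card (centralizer ({u} : Set G)) = n1 := by
      have h := (centralizer ({u} : Set G)).card_mul_index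
      rw [show (centralizer ({u} : Set G)).index = n3 from e, F.card_G hna] at h
      exact Nat.eq_of_mul_eq_mul_right (by linarith [F.lt3]) h
    have := Subgroup.orderOf_dvd_natCard (centralizer ({u} : Set G)) (mem_centralizer_singleton_iff.2 rfl : u ∈ _)
    rw [h, hu] at this
    exact hodd.not_two_dvd_nat this

/-- An odd order element `x` of size `n₁`. -/
theorem exists_axis (h2 : 2 ∣ Nat.card G) : ∃ (s : ℕ) (x : G), s.Prime ∧ s ≠ 2 ∧ IsREl s x ∧ x ≠ 1 ∧ cI x = n1 := by
  obtain ⟨x0, hx0, hx01⟩ := F.one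
  obtain ⟨s, x, hs, hxs, hx, hx1⟩ := exists_primary_of_min hna F.min_one hx0 hx01
  refine ⟨s, x, hs, ?_, hxs, hx, hx1⟩
  rintro rfl
  obtain ⟨k, hk⟩ := hxs.orderOf_eq hs
  obtain ⟨m, hm⟩ := CfsgLib.CIT.exists_involution_pow hk hx
  have h := ClassSizesPSL.cI_dvd (CfsgLib.ClassSizes.TwoSizes.centralizer_le_of_mem
    (pow_mem (mem_zpowers x) m) : centralizer ({x} : Set G) ≤ centralizer ({x ^ m} : Set G))
  rw [F.involution_two hna hH hcard hidx hm, hx1] at h
  exact F.nd21 h

theorem odd_two (h2 : 2 ∣ Nat.card G) : Odd n2 := by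
  haveI : Fact (Nat.Prime 2) := ⟨Nat.prime_two⟩
  obtain ⟨S⟩ := (inferInstance : Nonempty (Sylow 2 G))
  haveI : Nontrivial (S : Subgroup G) := by
    rw [nontrivial_iff_ne_bot]
    intro e
    have h := S.dvd_card_of_dvd_card h2
    rw [e, card_bot] at h
    omega
  haveI := S.2.center_nontrivial
  obtain ⟨n, hn⟩ := (S.2.to_subgroup (center (S : Subgroup G))).exists_card_eq
  have hc1 : 1 < Nat.card (center (S : Subgroup G)) := Finite.one_lt_card
  obtain ⟨z, hz⟩ := exists_prime_orderOf_dvd_card' 2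
    (show 2 ∣ Nat.card (center (S : Subgroup G)) by
      rw [hn] at hc1 ⊢; exact dvd_pow_self 2 fun h0 => by rw [h0] at hc1; simp at hc1)
  have hz' : orderOf ((z : (S : Subgroup G)) : G) = 2 := by rw [orderOf_coe, orderOf_coe, hz]
  rw [← Nat.not_even_iff_odd, even_iff_two_dvd, ← F.involution_two hna hH hcard hidx hz']
  exact fun hd => S.not_dvd_index (hd.trans (index_dvd_of_le fun a ha => mem_centralizer_singleton_iff.2
    (congrArg Subtype.val (mem_center_iff.1 z.2 ⟨a, ha⟩))))

variable (h2 : 2 ∣ Nat.card G) {s : ℕ} {x : G} (hs : s.Prime) (hs2 : s ≠ 2) (hxs : IsREl s x) (hx : x ≠ 1)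
  (hx1 : cI x = n1)
include h2 hs hs2 hxs hx hx1

theorem cent_le {u c : G} (hu : orderOf u = 2) (hcx : IsConj x c) (hc : Commute u c) :
    centralizer ({u} : Set G) ≤ centralizer ({c} : Set G) := by
  obtain ⟨g, rfl⟩ := isConj_iff.1 hcx
  obtain ⟨k, hk⟩ := (hxs.conj g).orderOf_eq hs
  have hco : (orderOf u).Coprime (orderOf (g * x * g⁻¹)) := by
    rw [hu, hk]
    exact Nat.Coprime.pow_right _ ((Nat.coprime_primes Nat.prime_two hs).2 hs2.symm)
  have hm := ClassSizesPSL.centralizer_mul hc hco
  have hu2 := F.involution_two hna hH hcard hidx hu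
  rw [← ClassSizesPSL.eq_of_le_of_cI_eq (x := u * (g * x * g⁻¹)) (y := u) (by rw [hm]; exact inf_le_left)
    ((F.max_two (hu2 ▸ (ClassSizesPSL.cI_dvd_mul hc hco).1)).trans hu2.symm), hm]
  exact inf_le_right

theorem exists_axis_of {u : G} (hu : orderOf u = 2) : ∃ c, IsConj x c ∧ Commute u c := by
  haveI : Fact (Nat.Prime 2) := ⟨Nat.prime_two⟩
  obtain ⟨S, hS⟩ := ClassSizesPSL.exists_sylow_le (r := 2) (H := centralizer ({x} : Set G))
    (show ¬ 2 ∣ cI x by rw [hx1]; exact (F.odd_one hna).not_two_dvd_nat)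
  obtain ⟨P, hP⟩ := (IsPGroup.of_card (n := 1) (by rw [Nat.card_zpowers, hu, pow_one]) :
    IsPGroup 2 (zpowers u)).exists_le_sylow
  obtain ⟨q, hq⟩ := MulAction.exists_smul_eq G P S
  have hmem : q * u * q⁻¹ ∈ centralizer ({x} : Set G) := hS (by
    rw [← hq, Sylow.coe_subgroup_smul, mem_pointwise_smul_iff_inv_smul_mem,
      show (MulAut.conj q)⁻¹ • (q * u * q⁻¹) = u from by
        rw [MulAut.smul_def, MulAut.conj_inv_apply]; group]
    exact hP (mem_zpowers u))
  refine ⟨q⁻¹ * x * q, isConj_iff.2 ⟨q⁻¹, by group⟩, ?_⟩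
  have h : Commute (q * u * q⁻¹) x := mem_centralizer_singleton_iff.1 hmem
  have h' := h.map (MulAut.conj q⁻¹).toMonoidHom
  simpa [mul_assoc] using h'

theorem axis_unique {u c c' : G} (hu : orderOf u = 2) (hc : IsConj x c) (hc' : IsConj x c')
    (h : Commute u c) (h' : Commute u c') : c' = c := by
  have hle := F.cent_le hna hH hcard hidx h2 hs hs2 hxs hx hx1 hu hc h
  have hcc : Commute c c' := (mem_centralizer_singleton_iff.1
    (hle (mem_centralizer_singleton_iff.2 h'.symm.eq)) : c' * c = c * c').symm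
  obtain ⟨g, hg⟩ := isConj_iff.1 (hc.symm.trans hc')
  have hc0 : c ≠ 1 := by
    obtain ⟨r, rfl⟩ := isConj_iff.1 hc
    exact fun e => hx (conj_eq_one_iff.1 e)
  have hc1 : cI c = n1 := by
    obtain ⟨r, rfl⟩ := isConj_iff.1 hc
    rw [ClassSizesPSL.cI_conj, hx1]
  rw [← hg] at hcc ⊢
  exact F.unique hna hH hcard hidx hc0 hc1 g hcc

/-- The product of two noncommuting involutions is conjugate into `H`. -/
theorem product_mem {u v : G} (hu : orderOf u = 2) (hv : orderOf v = 2) (huv : ¬ Commute u v) :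
    u * v ≠ 1 ∧ ∃ q : G, q * (u * v) * q⁻¹ ∈ H := by
  haveI := Fintype.ofFinite G
  classical
  have hne : u * v ≠ 1 := fun e => huv (by
    rw [show v = u⁻¹ from eq_inv_of_mul_eq_one_right e]; exact (Commute.refl u).inv_right)
  have hsq : u * v * (u * v) ≠ 1 := fun e => huv (by
    calc u * v = (u * v)⁻¹ := eq_inv_of_mul_eq_one_left e
      _ = v * u := by rw [mul_inv_rev, Signalizer.involution_inv hu, Signalizer.involution_inv hv])
  refine ⟨hne, hH.exists_conj_mem fun hco => ?_⟩
  rw [hcard] at hco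
  have hne3 : cI (u * v) ≠ n3 := by
    intro e
    have h : Nat.card (centralizer ({u * v} : Set G)) = n1 := by
      have h := (centralizer ({u * v} : Set G)).card_mul_index
      rw [show (centralizer ({u * v} : Set G)).index = n3 from e, F.card_G hna] at h
      exact Nat.eq_of_mul_eq_mul_right (by linarith [F.lt3]) h
    have h' := Subgroup.orderOf_dvd_natCard (centralizer ({u * v} : Set G))
      (mem_centralizer_singleton_iff.2 rfl : u * v ∈ _)
    rw [h] at h'
    exact hne (orderOf_eq_one_iff.1 (Nat.Coprime.eq_one_of_dvd hco h'))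
  have hinv : u ∈ inverters (u * v) := ClassSizesPSL.mem_inverters.2
    ⟨hu, by rw [← mul_assoc, Signalizer.involution_sq hu, one_mul]; exact hv⟩
  obtain ⟨j, hj⟩ := ClassSizesPSL.two_mul_cC_dvd hinv hsq
  rw [← cC_mul_cI (u * v), show 2 * cC (u * v) * j = cC (u * v) * (2 * j) by ring] at hj
  have hI := Nat.eq_of_mul_eq_mul_left Nat.card_pos hj
  rcases F.val (u * v) hne with e | e | e
  · exact (F.odd_one hna).not_two_dvd_nat ⟨j, e.symm.trans hI⟩
  · exact (F.odd_two hna hH hcard hidx h2).not_two_dvd_nat ⟨j, e.symm.trans hI⟩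
  · exact hne3 e

theorem commute_of_axis {u v c : G} (hu : orderOf u = 2) (hv : orderOf v = 2) (hc : IsConj x c)
    (h : Commute u c) (h' : Commute v c) : Commute u v := by
  by_contra huv
  obtain ⟨hne, q, hq⟩ := F.product_mem hna hH hcard hidx h2 hs hs2 hxs hx hx1 hu hv huv
  obtain ⟨g, rfl⟩ := isConj_iff.1 hc
  have h1 : orderOf (u * v) ∣ n1 := by
    rw [← hcard, ← CfsgLib.Signalizer.orderOf_conj q (u * v)]
    exact Subgroup.orderOf_dvd_natCard H hq
  have h3 : orderOf (u * v) ∣ n3 := by
    have hK : Nat.card (centralizer ({g * x * g⁻¹} : Set G)) = n3 := by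
      have hm := (centralizer ({g * x * g⁻¹} : Set G)).card_mul_index
      rw [show (centralizer ({g * x * g⁻¹} : Set G)).index = n1 from (ClassSizesPSL.cI_conj g x).trans hx1,
        F.card_G hna, mul_comm] at hm
      exact Nat.eq_of_mul_eq_mul_left (by linarith [F.lt1]) hm
    rw [← hK]
    exact Subgroup.orderOf_dvd_natCard _ (mem_centralizer_singleton_iff.2 (h.mul_left h').eq)
  exact hne (orderOf_eq_one_iff.1 (Nat.eq_one_of_dvd_coprimes F.co h1 h3))

end Fork

end CfsgLib.Recog.RankThree
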