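import Cfsg.Agent.Lib.Recog.RankThree.CC
import Cfsg.Agent.Lib.CIT.CN
import Cfsg.Agent.S4355

/-!
# No class size properly divides another

Then `G` is a CN group, hence CIT, and every 2-element has odd class size, so the Sylow 2-subgroups are abelian
and self-centralising.
-/

set_option autoImplicit false
set_option linter.all false

namespace CfsgLib.Recog.RankThree

open Subgroup
open CfsgLib.Recog.ClassSizesPSL (cI cC IsREl)

variable {G : Type*} [Group G] [Finite G] [IsSimpleGroup G] (hna : ¬ IsMulCommutative G)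
  (hanti : ∀ x y : G, x ≠ 1 → y ≠ 1 → cI x ∣ cI y → cI x = cI y)
include hna hanti

theorem centralizer_eq_of_coprime {x y : G} (hx : x ≠ 1) (hy : y ≠ 1) (hc : Commute x y)
    (hco : (orderOf x).Coprime (orderOf y)) :
    centralizer ({x} : Set G) = centralizer ({y} : Set G) := by
  have hxy : x * y ≠ 1 := fun h => hx (orderOf_eq_one_iff.1 (Nat.Coprime.eq_one_of_dvd hco
    (by rw [show y = x⁻¹ from eq_inv_of_mul_eq_one_right h, orderOf_inv])))
  obtain ⟨h1, h2⟩ := ClassSizesPSL.cI_dvd_mul hc hco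
  have hm := ClassSizesPSL.centralizer_mul hc hco
  rw [← ClassSizesPSL.eq_of_le_of_cI_eq (x := x * y) (y := x) (by rw [hm]; exact inf_le_left)
      (hanti x _ hx hxy h1).symm,
    ← ClassSizesPSL.eq_of_le_of_cI_eq (x := x * y) (y := y) (by rw [hm]; exact inf_le_right)
      (hanti y _ hy hxy h2).symm]

theorem isCNGroup : Cfsg.IsCNGroup G := by
  intro g hg
  obtain ⟨s, x, hs, hxs, hxg, hxc⟩ := ClassSizesPSL.exists_primary (notMem_center hna hg)
  have hx : x ≠ 1 := fun h => hxc (h ▸ one_mem _)
  haveI := Fact.mk hs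
  set C := centralizer ({x} : Set G)
  have hP : IsPGroup s (C ⧸ center C) := by
    intro q
    obtain ⟨⟨y, hy⟩, rfl⟩ := QuotientGroup.mk_surjective q
    refine ⟨(orderOf y).factorization s, ?_⟩
    rw [← QuotientGroup.mk_pow, QuotientGroup.eq_one_iff]
    set z := y ^ s ^ (orderOf y).factorization s with hz
    refine mem_center_iff.2 fun c => Subtype.ext ?_
    show (c : G) * z = z * c
    by_cases hz1 : z = 1
    · rw [hz1, mul_one, one_mul]
    have hzo : orderOf z = orderOf y / s ^ (orderOf y).factorization s :=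
      orderOf_pow_of_dvd (pow_ne_zero _ hs.ne_zero) (Nat.ordProj_dvd _ _)
    have hco : (orderOf x).Coprime (orderOf z) := by
      obtain ⟨k, hk⟩ := hxs.orderOf_eq hs
      rw [hk, hzo]
      exact Nat.Coprime.pow_left _ (Nat.coprime_ordCompl hs (orderOf_pos y).ne')
    have hxz : Commute x z := (show Commute x y from (mem_centralizer_singleton_iff.1 hy).symm).pow_right _
    have hc : (c : G) ∈ centralizer ({z} : Set G) := centralizer_eq_of_coprime hna hanti hx hz1 hxz hco ▸ c.2
    exact mem_centralizer_singleton_iff.1 hc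
  haveI : Group.IsNilpotent C := Group.of_quotient_center_nilpotent hP.isNilpotent
  exact Group.nilpotent_of_mulEquiv (subgroupOfEquivOfLe
    (CfsgLib.ClassSizes.TwoSizes.centralizer_le_of_mem hxg))

/-- The Sylow 2-subgroups are CC. -/
theorem exists_cc_two : ∃ H : Subgroup G, IsCCHall H ∧ 2 ∣ Nat.card H ∧ IsPGroup 2 H := by
  haveI : Fact (Nat.Prime 2) := ⟨Nat.prime_two⟩
  obtain ⟨hCIT, h2⟩ := CfsgLib.CIT.cn_simple hna (isCNGroup hna hanti)
  obtain ⟨S⟩ := (inferInstance : Nonempty (Sylow 2 G))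
  have hSne : (S : Subgroup G) ≠ ⊥ := fun e => by
    have h := S.dvd_card_of_dvd_card h2
    rw [e, card_bot] at h
    omega
  haveI : Nontrivial (S : Subgroup G) := (nontrivial_iff_ne_bot _).2 hSne
  haveI := S.2.center_nontrivial
  obtain ⟨z, hz⟩ := exists_ne (1 : center (S : Subgroup G))
  have hz1 : ((z : (S : Subgroup G)) : G) ≠ 1 := fun h => hz (Subtype.ext (Subtype.ext h))
  have hzodd : ¬ 2 ∣ cI ((z : (S : Subgroup G)) : G) := fun hd => S.not_dvd_index (hd.trans
    (index_dvd_of_le fun a ha => mem_centralizer_singleton_iff.2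
      (congrArg Subtype.val (mem_center_iff.1 z.2 ⟨a, ha⟩))))
  have hle : ∀ x : G, x ≠ 1 → (∃ k, orderOf x = 2 ^ k) → IsPGroup 2 (centralizer ({x} : Set G)) := by
    rintro x hx ⟨k, hk⟩
    obtain ⟨m, hm⟩ := CfsgLib.CIT.exists_involution_pow hk hx
    refine (hCIT _ hm).to_le fun a ha => mem_centralizer_singleton_iff.2 ?_
    exact ((show Commute a x from mem_centralizer_singleton_iff.1 ha).pow_right m).eq
  have hodd : ∀ x : G, (∃ k, orderOf x = 2 ^ k) → ¬ 2 ∣ cI x := by
    intro x hk
    by_cases hx : x = 1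
    · rw [hx, ClassSizesPSL.cI_eq_one_iff.2 (one_mem _)]; omega
    have hdvd : cI ((z : (S : Subgroup G)) : G) ∣ cI x := by
      obtain ⟨P, hP⟩ := (hle x hx hk).exists_le_sylow
      have h1 : (S : Subgroup G).index ∣ cI x := by
        have hi : (P : Subgroup G).index = (S : Subgroup G).index := by
          refine Nat.eq_of_mul_eq_mul_left (Nat.card_pos (α := P)) ?_
          rw [(P : Subgroup G).card_mul_index,
            show Nat.card P = Nat.card S by rw [P.card_eq_multiplicity, S.card_eq_multiplicity],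
            (S : Subgroup G).card_mul_index]
        rw [← hi]
        exact index_dvd_of_le hP
      exact (index_dvd_of_le fun a ha => mem_centralizer_singleton_iff.2
        (congrArg Subtype.val (mem_center_iff.1 z.2 ⟨a, ha⟩))).trans h1
    rw [← hanti _ x hz1 hx hdvd]
    exact hzodd
  have hab := Cfsg.Agent.S4355.result hodd S
  refine ⟨S, ⟨hSne, hab, fun h hh h1 => ?_, ?_⟩, S.dvd_card_of_dvd_card h2, S.2⟩
  · have hk : ∃ k, orderOf h = 2 ^ k := CfsgLib.CIT.orderOf_two_pow_of_mem S.2 hh
    refine S.is_maximal' (hle h h1 hk) fun a ha => mem_centralizer_singleton_iff.2 ?_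
    exact congrArg Subtype.val (hab.is_comm.comm ⟨a, ha⟩ ⟨h, hh⟩)
  · obtain ⟨n, hn⟩ := IsPGroup.iff_card.1 S.2
    rw [hn]
    exact (Nat.prime_two.coprime_iff_not_dvd.2 S.not_dvd_index).pow_left n

end CfsgLib.Recog.RankThree
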