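import Cfsg.Agent.Lib.Recog.ClassSizesPSL.Basic
import Cfsg.Agent.Lib.Char.Complete
import Cfsg.Agent.S0215
import Cfsg.Agent.S4037

/-!
# Simple groups with three class sizes: general facts

* `index_inf_of_coprime`, `exists_mul_of_coprime`: subgroups of coprime indices
* `not_commute`: elements of coprime class sizes of a simple group do not commute
* `not_same_prime`: nor are they `s`-elements for the same prime
* `inf_bot_of_three`: their centralisers meet trivially
* `not_isolated`: no involution is isolated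
-/

set_option autoImplicit false
set_option linter.all false

namespace CfsgLib.Recog.RankThree

open Subgroup
open CfsgLib.Recog.ClassSizesPSL (cI cC IsREl)

variable {G : Type*} [Group G] [Finite G]

theorem cI_pos (x : G) : 0 < cI x := Nat.pos_of_ne_zero index_ne_zero_of_finite

theorem cC_mul_cI (x : G) : cC x * cI x = Nat.card G := card_mul_index _

theorem index_inf_of_coprime {A B : Subgroup G} (hco : A.index.Coprime B.index) :
    (A ⊓ B).index = A.index * B.index ∧ A.relIndex B = A.index := by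
  have h1 : (A ⊓ B).relIndex B * B.index = (A ⊓ B).index := relIndex_mul_index inf_le_right
  rw [inf_relIndex_right] at h1
  have h2 : A.index ∣ A.relIndex B := by
    have h3 : A.index ∣ A.relIndex B * B.index := h1 ▸ index_dvd_of_le inf_le_left
    exact hco.dvd_of_dvd_mul_right h3
  have hle : A.relIndex B ≤ A.index := by
    rw [← relIndex_top_right A]
    exact relIndex_le_of_le_right le_top (by rw [relIndex_top_right]; exact index_ne_zero_of_finite)
  have h4 : A.index ≤ A.relIndex B :=
    Nat.le_of_dvd (Nat.pos_of_ne_zero fun h => (index_ne_zero_of_finite (H := A ⊓ B)) (by rw [← h1, h, zero_mul])) h2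
  have h5 := le_antisymm hle h4
  exact ⟨by rw [← h1, h5], h5⟩

theorem exists_mul_of_coprime {A B : Subgroup G} (hco : A.index.Coprime B.index) (g : G) :
    ∃ b ∈ B, ∃ a ∈ A, g = b * a := by
  have hinj : Function.Injective (fun q : B ⧸ A.subgroupOf B =>
      Quotient.liftOn' q (fun b => ((b : G) : G ⧸ A)) (fun b c hbc => QuotientGroup.eq.2
        (by simpa [mem_subgroupOf] using QuotientGroup.leftRel_apply.1 hbc))) := by
    rintro ⟨b⟩ ⟨c⟩ h
    refine QuotientGroup.eq.2 ?_
    rw [mem_subgroupOf, coe_mul, coe_inv]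
    exact QuotientGroup.eq.1 h
  have hcard : Nat.card (B ⧸ A.subgroupOf B) = Nat.card (G ⧸ A) := (index_inf_of_coprime hco).2
  obtain ⟨⟨b⟩, hb⟩ := ((Nat.bijective_iff_injective_and_card _).2 ⟨hinj, hcard⟩).2 (g : G ⧸ A)
  exact ⟨b, b.2, (b : G)⁻¹ * g, QuotientGroup.eq.1 hb, by group⟩

variable [IsSimpleGroup G] (hna : ¬ IsMulCommutative G)
include hna

theorem not_solvable : ¬ Group.IsSolvable G := fun h =>
  hna ⟨⟨IsSimpleGroup.comm_iff_isSolvable.2 h⟩⟩

theorem center_bot : center G = ⊥ := by
  rcases (inferInstance : (center G).Normal).eq_bot_or_eq_top with h | h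
  · exact h
  · exact absurd ⟨⟨fun a b => (mem_center_iff.1 (show a ∈ center G by rw [h]; trivial) b).symm⟩⟩ hna

theorem cI_ne_one {x : G} (hx : x ≠ 1) : cI x ≠ 1 := fun h =>
  hx (by simpa [center_bot hna] using ClassSizesPSL.cI_eq_one_iff.1 h)

theorem notMem_center {x : G} (hx : x ≠ 1) : x ∉ center G := fun h =>
  hx (by simpa [center_bot hna] using h)

theorem not_prime_pow {x : G} (hx : x ≠ 1) {p : ℕ} (hp : p.Prime) (k : ℕ) : cI x ≠ p ^ k := by
  intro h
  have hs := Cfsg.Agent.S4037.result x hp k (by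
    rw [← Nat.card_coe_set_eq, CfsgLib.Char.card_carrier_eq_index]; exact h)
  rcases (normalClosure_normal (s := ({x} : Set G))).eq_bot_or_eq_top with e | e
  · exact hx (by simpa [e] using (subset_normalClosure rfl : x ∈ normalClosure ({x} : Set G)))
  · haveI := hs
    rw [e] at hs
    haveI := hs
    exact not_solvable hna (Group.isSolvable_of_surjective (f := (topEquiv (G := G)).toMonoidHom)
      (topEquiv (G := G)).surjective)

/-- Elements of coprime class sizes do not commute. -/
theorem not_commute {x y : G} (hx : x ≠ 1) (hy : y ≠ 1) (hco : (cI x).Coprime (cI y)) :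
    ¬ Commute x y := by
  intro hc
  have hle : normalClosure ({x} : Set G) ≤ centralizer ({y} : Set G) := by
    rw [normalClosure, closure_le]
    intro z hz
    obtain ⟨x', hx', hcj⟩ := Group.mem_conjugatesOfSet_iff.1 hz
    rw [Set.mem_singleton_iff] at hx'
    subst hx'
    obtain ⟨g, rfl⟩ := isConj_iff.1 hcj
    obtain ⟨b, hb, a, ha, rfl⟩ := exists_mul_of_coprime hco g
    have : b * a * x' * (b * a)⁻¹ = b * x' * b⁻¹ := by
      rw [show b * a * x' * (b * a)⁻¹ = b * (a * x' * a⁻¹) * b⁻¹ by group,
        mem_centralizer_singleton_iff.1 ha, mul_inv_cancel_right]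
    rw [SetLike.mem_coe, this]
    exact mul_mem (mul_mem hb (mem_centralizer_singleton_iff.2 hc.eq)) (inv_mem hb)
  rcases (normalClosure_normal (s := ({x} : Set G))).eq_bot_or_eq_top with e | e
  · exact hx (by simpa [e] using (subset_normalClosure rfl : x ∈ normalClosure ({x} : Set G)))
  · rw [e, top_le_iff] at hle
    exact cI_ne_one hna hy (index_eq_one.2 hle)

/-- Nor are they `s`-elements for the same prime. -/
theorem not_same_prime {s : ℕ} (hs : s.Prime) {x y : G} (hx : x ≠ 1) (hy : y ≠ 1)
    (hxs : IsREl s x) (hys : IsREl s y) (hco : (cI x).Coprime (cI y)) : False := by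
  haveI := Fact.mk hs
  wlog hn : ¬ s ∣ cI x generalizing x y
  · refine this hy hx hys hxs hco.symm fun h => hs.not_dvd_one ?_
    exact hco ▸ Nat.dvd_gcd (Classical.not_not.1 hn) h
  obtain ⟨R, hR⟩ := ClassSizesPSL.exists_sylow_le (r := s) (H := centralizer ({x} : Set G)) hn
  obtain ⟨P, hP⟩ := hys.isPGroup_zpowers.exists_le_sylow
  obtain ⟨g, hg⟩ := MulAction.exists_smul_eq G P R
  have hyR : g * y * g⁻¹ ∈ (R : Subgroup G) := by
    rw [← hg, Sylow.coe_subgroup_smul, mem_pointwise_smul_iff_inv_smul_mem,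
      show (MulAut.conj g)⁻¹ • (g * y * g⁻¹) = y from by
        rw [MulAut.smul_def, MulAut.conj_inv_apply]; group]
    exact hP (mem_zpowers y)
  refine not_commute hna hx (fun e => hy (conj_eq_one_iff.1 e)) ?_
    (mem_centralizer_singleton_iff.1 (hR hyR)).symm
  rwa [ClassSizesPSL.cI_conj]

/-- A size minimal among the sizes is attained by a primary element. -/
theorem exists_primary_of_min {M : ℕ} (hmin : ∀ z : G, z ≠ 1 → cI z ∣ M → cI z = M) {x : G}
    (hx : x ≠ 1) (hxM : cI x = M) :
    ∃ (s : ℕ) (y : G), s.Prime ∧ IsREl s y ∧ y ≠ 1 ∧ cI y = M := by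
  obtain ⟨s, y, hs, hy, hyx, hyc⟩ := ClassSizesPSL.exists_primary (notMem_center hna hx)
  have hy1 : y ≠ 1 := fun h => hyc (h ▸ one_mem _)
  exact ⟨s, y, hs, hy, hy1, hmin y hy1 (hxM ▸ ClassSizesPSL.cI_dvd
    (CfsgLib.ClassSizes.TwoSizes.centralizer_le_of_mem hyx))⟩

/-- If `x`, `y` have coprime sizes and no element of size other than `cI x`, `cI y` has a size
dividing compatibly, the centralisers meet trivially. -/
theorem inf_bot_of_three {s t : ℕ} (hs : s.Prime) (ht : t.Prime) {x y : G} (hx : x ≠ 1) (hy : y ≠ 1)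
    (hxs : IsREl s x) (hyt : IsREl t y) (hco : (cI x).Coprime (cI y))
    (hmid : ∀ d : G, d ≠ 1 → cI d ≠ cI x → cI d ≠ cI y → ∀ w : G, cI d ∣ cI w → cI w = cI d) :
    centralizer ({x} : Set G) ⊓ centralizer ({y} : Set G) = ⊥ ∧ cI x * cI y = Nat.card G := by
  have hst : s ≠ t := fun h => not_same_prime hna hs hx hy hxs (h ▸ hyt) hco
  have hbot : centralizer ({x} : Set G) ⊓ centralizer ({y} : Set G) = ⊥ := by
    by_contra hne
    obtain ⟨p, hp, hpd⟩ := Nat.exists_prime_and_dvd
      (fun h => hne (card_eq_one.1 h) : Nat.card ↥(centralizer ({x} : Set G) ⊓ centralizer ({y} : Set G)) ≠ 1)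
    haveI := Fact.mk hp
    obtain ⟨⟨d, hdm⟩, hd⟩ := exists_prime_orderOf_dvd_card' p hpd
    rw [orderOf_mk] at hd
    obtain ⟨hdx, hdy⟩ := hdm
    have hd1 : d ≠ 1 := fun h => hp.ne_one (by rw [← hd, h, orderOf_one])
    have cdx : Commute d x := mem_centralizer_singleton_iff.1 hdx
    have cdy : Commute d y := mem_centralizer_singleton_iff.1 hdy
    have hnx : cI d ≠ cI x := fun h => not_commute hna hd1 hy (h ▸ hco) cdy
    have hny : cI d ≠ cI y := fun h => not_commute hna hd1 hx (h ▸ hco.symm) cdx
    have hpr : ClassSizesPSL.IsREl p d := ⟨1, by rw [pow_one, ← hd]; exact pow_orderOf_eq_one d⟩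
    have key : ∀ {z w : G} {r : ℕ}, r.Prime → p ≠ r → IsREl r z → Commute d z → Commute d w →
        Commute z w := by
      intro z w r hr hpr' hz hdz hdw
      have hco' := hz.orderOf_coprime hr hp (Ne.symm hpr') hpr
      have hc := ClassSizesPSL.centralizer_mul hdz hco'.symm
      have he := hmid d hd1 hnx hny (d * z) (ClassSizesPSL.cI_dvd_mul hdz hco'.symm).1
      have hle : centralizer ({d * z} : Set G) ≤ centralizer ({d} : Set G) := by
        rw [hc]; exact inf_le_left
      have h1 : w ∈ centralizer ({d * z} : Set G) := by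
        rw [ClassSizesPSL.eq_of_le_of_cI_eq hle he]
        exact mem_centralizer_singleton_iff.2 hdw.symm.eq
      rw [hc] at h1
      exact (mem_centralizer_singleton_iff.1 h1.2).symm
    have hnc := not_commute hna hx hy hco
    by_cases hps : p = s
    · exact hnc (key ht (fun h => hst (hps ▸ h)) hyt cdy cdx).symm
    · exact hnc (key hs hps hxs cdx cdy)
  refine ⟨hbot, ?_⟩
  have h := (index_inf_of_coprime hco).1
  rw [hbot, index_bot] at h
  exact h.symm

/-- No involution is isolated. -/
theorem not_isolated (S : Sylow 2 G) {u : G} (hu : orderOf u = 2) (huS : u ∈ S) :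
    ¬ ∀ g : G, g * u * g⁻¹ ∈ S → g * u * g⁻¹ = u := by
  intro hiso
  obtain ⟨N, hN, hNodd, hNc⟩ := Cfsg.Agent.S0215.result S u hu huS hiso
  have h2 : 2 ∣ Nat.card G := hu ▸ orderOf_dvd_natCard u
  rcases hN.eq_bot_or_eq_top with e | e
  · have huZ : u ∈ center G := mem_center_iff.2 fun g => by
      have h1 := mem_bot.1 (e ▸ hNc g)
      calc g * u = (u * g * u⁻¹ * g⁻¹)⁻¹ * u * g := by group
        _ = u * g := by rw [h1, inv_one, one_mul]
    have hu1 : u ≠ 1 := fun h => by rw [h, orderOf_one] at hu; omega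
    exact notMem_center hna hu1 huZ
  · rw [e, card_top] at hNodd
    exact hNodd.not_two_dvd_nat h2

end CfsgLib.Recog.RankThree
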