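import Cfsg.Agent.Lib.Recog.RankThree.Basic
import Cfsg.Agent.Lib.CIT.CN

/-!
# Abelian self-centralising Hall subgroups of simple groups

`IsCCHall H`: `H` is an abelian Hall subgroup containing the centraliser of each of its nontrivial elements.
If `H` has even order its normaliser is strongly embedded and `G` acts on its cosets as a Zassenhaus group.
-/

set_option autoImplicit false
set_option linter.all false

namespace CfsgLib.Recog.RankThree

open Subgroup
open CfsgLib.CIT (Embedded)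

variable {G : Type*} [Group G]

/-- An abelian Hall subgroup which is the centraliser of each of its nontrivial elements. -/
structure IsCCHall (H : Subgroup G) : Prop where
  ne_bot : H ≠ ⊥
  comm : IsMulCommutative H
  cent : ∀ h ∈ H, h ≠ 1 → centralizer ({h} : Set G) = H
  hall : (Nat.card H).Coprime H.index

namespace IsCCHall

variable {H : Subgroup G} (hH : IsCCHall H)
include hH

theorem commute {a b : G} (ha : a ∈ H) (hb : b ∈ H) : a * b = b * a :=
  congrArg Subtype.val (hH.comm.is_comm.comm ⟨a, ha⟩ ⟨b, hb⟩)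

theorem mem_of_commute {a b : G} (ha : a ∈ H) (ha1 : a ≠ 1) (h : Commute b a) : b ∈ H := by
  rw [← hH.cent a ha ha1]
  exact mem_centralizer_singleton_iff.2 h.eq

theorem ti {g h : G} (hh : h ∈ H) (hh1 : h ≠ 1) (hg : g⁻¹ * h * g ∈ H) :
    g ∈ normalizer (H : Set G) := by
  have h1 : g⁻¹ * h * g ≠ 1 := fun e => hh1 (by
    calc h = g * (g⁻¹ * h * g) * g⁻¹ := by group
      _ = 1 := by rw [e]; group)
  rw [mem_normalizer_iff]
  intro k
  refine ⟨fun hk => hH.mem_of_commute hh hh1 ?_, fun hk => hH.mem_of_commute hg h1 ?_⟩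
  · have h2 : k * (g⁻¹ * h * g) = (g⁻¹ * h * g) * k := hH.commute hk hg
    calc g * k * g⁻¹ * h = g * (k * (g⁻¹ * h * g)) * g⁻¹ := by group
      _ = g * ((g⁻¹ * h * g) * k) * g⁻¹ := by rw [h2]
      _ = h * (g * k * g⁻¹) := by group
  · have h2 : (g * k * g⁻¹) * h = h * (g * k * g⁻¹) := hH.commute hk hh
    calc k * (g⁻¹ * h * g) = g⁻¹ * ((g * k * g⁻¹) * h) * g := by group
      _ = g⁻¹ * (h * (g * k * g⁻¹)) * g := by rw [h2]
      _ = g⁻¹ * h * g * k := by group

theorem inv_conj_mem {g k : G} (hg : g ∈ normalizer (H : Set G)) (hk : k ∈ H) : g⁻¹ * k * g ∈ H := by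
  have := (mem_normalizer_iff.1 (inv_mem hg) k).1 hk
  simpa using this

theorem mem_of_coprime [Finite G] {w : G} (hw : w ∈ normalizer (H : Set G))
    (hco : (orderOf w).Coprime H.index) : w ∈ H := by
  have hle : H ≤ normalizer (H : Set G) := le_normalizer
  haveI : (H.subgroupOf (normalizer (H : Set G))).Normal := normal_subgroupOf_of_le_normalizer le_rfl
  have h1 : w ^ H.relIndex (normalizer (H : Set G)) ∈ H :=
    (H.subgroupOf (normalizer (H : Set G))).pow_index_mem ⟨w, hw⟩
  have h2 : (H.relIndex (normalizer (H : Set G))) ∣ H.index := relIndex_dvd_index_of_le hle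
  obtain ⟨m, hm⟩ := exists_pow_eq_self_of_coprime (x := w) (hco.coprime_dvd_right h2).symm
  rw [← hm]
  exact pow_mem h1 m

theorem normalizer_ne_top [Finite G] [IsSimpleGroup G] (hna : ¬ IsMulCommutative G) :
    normalizer (H : Set G) ≠ ⊤ := by
  intro e
  rcases (normalizer_eq_top_iff.1 e).eq_bot_or_eq_top with h | h
  · exact hH.ne_bot h
  · exact hna ⟨⟨fun a b => hH.commute (h ▸ mem_top a) (h ▸ mem_top b)⟩⟩

variable [Finite G]

theorem involution_mem (h2 : 2 ∣ Nat.card H) {w : G} (hw : w ∈ normalizer (H : Set G))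
    (ho : orderOf w = 2) : w ∈ H := by
  refine hH.mem_of_coprime hw ?_
  rw [ho]
  exact hH.hall.coprime_dvd_left h2

variable [IsSimpleGroup G] (hna : ¬ IsMulCommutative G)
include hna

theorem embedded (h2 : 2 ∣ Nat.card H) : Embedded (normalizer (H : Set G)) H := by
  haveI : Fact (Nat.Prime 2) := ⟨Nat.prime_two⟩
  refine ⟨⟨hH.normalizer_ne_top hna, ?_, fun g hg => ?_⟩, le_normalizer, le_rfl,
    fun t ht ho => hH.involution_mem h2 ht ho, fun h hh h1 => (hH.cent h hh h1).le,
    fun g hg h hh hgh => by_contra fun h1 => hg (hH.ti hh h1 hgh)⟩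
  · exact even_iff_two_dvd.2 (h2.trans (card_dvd_of_le le_normalizer))
  · rw [← Nat.not_even_iff_odd, even_iff_two_dvd]
    intro hd
    obtain ⟨⟨w, hwm⟩, hw⟩ := exists_prime_orderOf_dvd_card' 2 hd
    rw [orderOf_mk] at hw
    obtain ⟨hw1, v, hv, hvw⟩ := hwm
    have hvw' : g * v * g⁻¹ = w := hvw
    have hwH := hH.involution_mem h2 hw1 hw
    have hv2 : orderOf v = 2 := by rw [← hw, ← hvw', CfsgLib.Signalizer.orderOf_conj]
    have hvH := hH.involution_mem h2 hv hv2
    refine hg (hH.ti hwH (fun h => by rw [h, orderOf_one] at hw; omega) ?_)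
    rw [← hvw', show g⁻¹ * (g * v * g⁻¹) * g = v by group]
    exact hvH

theorem exists_two_involutions (h2 : 2 ∣ Nat.card H) :
    ∃ s t : G, s ∈ H ∧ t ∈ H ∧ orderOf s = 2 ∧ orderOf t = 2 ∧ s ≠ t := by
  haveI : Fact (Nat.Prime 2) := ⟨Nat.prime_two⟩
  obtain ⟨⟨u, huH⟩, hu⟩ := exists_prime_orderOf_dvd_card' 2 h2
  rw [orderOf_mk] at hu
  by_contra hcon
  push Not at hcon
  obtain ⟨S, hS⟩ := ClassSizesPSL.exists_sylow_le (r := 2) (H := H)
    (fun hd => Nat.prime_two.not_dvd_one (hH.hall ▸ Nat.dvd_gcd h2 hd))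
  have h2G : 2 ∣ Nat.card G := h2.trans H.card_subgroup_dvd_card
  obtain ⟨⟨w, hwS⟩, hw⟩ := exists_prime_orderOf_dvd_card' 2 (S.dvd_card_of_dvd_card h2G)
  rw [orderOf_mk] at hw
  refine not_isolated hna S hw hwS fun g hg => ?_
  exact hcon _ _ (hS hg) (hS hwS) ((CfsgLib.Signalizer.orderOf_conj g w).trans hw) hw

theorem faithful : FaithfulSMul G (G ⧸ normalizer (H : Set G)) := by
  refine ⟨fun {a b} hab => ?_⟩
  have hK : (normalizer (H : Set G)).normalCore = ⊥ := by
    rcases (inferInstance : (normalizer (H : Set G)).normalCore.Normal).eq_bot_or_eq_top with h | h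
    · exact h
    · exact absurd (top_le_iff.1 (h ▸ normalCore_le (normalizer (H : Set G)))) (hH.normalizer_ne_top hna)
  have hmem : b⁻¹ * a ∈ (normalizer (H : Set G)).normalCore := by
    rw [normalCore_eq_ker, MonoidHom.mem_ker]
    ext p
    simp [mul_smul, hab p]
  rw [hK, mem_bot, inv_mul_eq_one] at hmem
  exact hmem.symm

theorem two_le_invCount (h2 : 2 ∣ Nat.card H) : 2 ≤ (hH.embedded hna h2).invCount := by
  obtain ⟨s, t, hs, ht, hs2, ht2, hst⟩ := hH.exists_two_involutions hna h2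
  haveI : Nontrivial {t : G // orderOf t = 2 ∧ t ∈ normalizer (H : Set G)} :=
    ⟨⟨⟨s, hs2, le_normalizer hs⟩, ⟨t, ht2, le_normalizer ht⟩, fun e => hst (congrArg Subtype.val e)⟩⟩
  exact Finite.one_lt_card

theorem comm_involutions (h2 : 2 ∣ Nat.card H) : ∃ s t : G, s ∈ normalizer (H : Set G) ∧
    t ∈ normalizer (H : Set G) ∧ orderOf s = 2 ∧ orderOf t = 2 ∧ s ≠ t ∧ s * t = t * s := by
  obtain ⟨s, t, hs, ht, hs2, ht2, hst⟩ := hH.exists_two_involutions hna h2
  exact ⟨s, t, le_normalizer hs, le_normalizer ht, hs2, ht2, hst, hH.commute hs ht⟩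

/-- An even CC Hall subgroup is a 2-group. -/
theorem isPGroup_two (h2 : 2 ∣ Nat.card H) : IsPGroup 2 H :=
  (hH.embedded hna h2).isPGroup_two (hH.two_le_invCount hna h2) (hH.comm_involutions hna h2)
    (hH.faithful hna)

end IsCCHall

end CfsgLib.Recog.RankThree
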