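import Cfsg.Agent.Lib.Recog.RankThree.Fork

/-!
# Counting noncommuting pairs of involutions in the fork case
-/

set_option autoImplicit false
set_option linter.all false
set_option maxHeartbeats 800000

namespace CfsgLib.Recog.RankThree

open Subgroup
open CfsgLib.Recog.ClassSizesPSL (cI cC IsREl invol mem_invol)

variable {G : Type*} [Group G] [Finite G] {n1 n2 n3 : ℕ} [IsSimpleGroup G]

/-- Involutions of the normaliser of an abelian CC Hall subgroup of odd order form one coset and are fused by it. -/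
theorem IsCCHall.invol_normalizer {H : Subgroup G} (hH : IsCCHall H) (hodd : Odd (Nat.card H)) {w : G}
    (hw : orderOf w = 2) (hwN : w ∈ normalizer (H : Set G)) :
    (∀ h ∈ H, orderOf (w * h) = 2 ∧ w * h ∈ normalizer (H : Set G) ∧ IsConj w (w * h)) ∧
      ∀ v : G, orderOf v = 2 → v ∈ normalizer (H : Set G) → w⁻¹ * v ∈ H := by
  have hinv : ∀ v : G, orderOf v = 2 → v ∈ normalizer (H : Set G) → ∀ h ∈ H, v * h * v⁻¹ = h⁻¹ := by
    intro v hv hvN h hh
    have hvh : v * h * v⁻¹ ∈ H := (mem_normalizer_iff.1 hvN h).1 hh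
    have hfix : v * (h * (v * h * v⁻¹)) * v⁻¹ = h * (v * h * v⁻¹) := by
      calc v * (h * (v * h * v⁻¹)) * v⁻¹ = (v * h * v⁻¹) * ((v * v) * h * (v * v)⁻¹) := by group
        _ = (v * h * v⁻¹) * h := by rw [Signalizer.involution_sq hv]; group
        _ = _ := hH.commute hvh hh
    by_contra hne
    have hk1 : h * (v * h * v⁻¹) ≠ 1 := fun e => hne (eq_inv_of_mul_eq_one_right e)
    have hvm : v ∈ H := hH.mem_of_commute (mul_mem hh hvh) hk1 (mul_inv_eq_iff_eq_mul.1 hfix)
    have := Subgroup.orderOf_dvd_natCard H hvm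
    rw [hv] at this
    exact hodd.not_two_dvd_nat this
  refine ⟨fun h hh => ?_, fun v hv hvN => ?_⟩
  · have hsq : (w * h) * (w * h) = 1 := by
      calc (w * h) * (w * h) = (w * h * w⁻¹) * (w * w) * h := by group
        _ = 1 := by rw [hinv w hw hwN h hh, Signalizer.involution_sq hw]; group
    have hne : w * h ≠ 1 := fun e => by
      have h1 : w ∈ H := by
        rw [eq_inv_of_mul_eq_one_left e]; exact inv_mem hh
      have := Subgroup.orderOf_dvd_natCard H h1
      rw [hw] at this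
      exact hodd.not_two_dvd_nat this
    refine ⟨Signalizer.orderOf_eq_two_of hne hsq, mul_mem hwN (le_normalizer hh), ?_⟩
    obtain ⟨j, hj⟩ := hodd
    have hpow : (h ^ (j + 1)) ^ 2 = h := by
      rw [← pow_mul, show (j + 1) * 2 = Nat.card H + 1 by omega, pow_succ]
      rw [show h ^ Nat.card H = 1 from congrArg Subtype.val (pow_card_eq_one' (x := (⟨h, hh⟩ : H))), one_mul]
    refine isConj_iff.2 ⟨(h ^ (j + 1))⁻¹, ?_⟩
    set k := h ^ (j + 1) with hk
    have h1 := hinv w hw hwN k (pow_mem hh _)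
    rw [mul_inv_eq_iff_eq_mul] at h1
    calc k⁻¹ * w * k⁻¹⁻¹ = (k⁻¹ * w) * k := by group
      _ = (w * k) * k := by rw [h1]
      _ = w * (k ^ 2) := by rw [pow_two, mul_assoc]
      _ = w * h := by rw [hpow]
  · by_cases hvw : v = w
    · subst hvw; simp
    obtain ⟨h, hh, h1⟩ := H.bot_or_exists_ne_one.resolve_left hH.ne_bot
    refine hH.mem_of_commute hh h1 ?_
    show w⁻¹ * v * h = h * (w⁻¹ * v)
    have e1 := hinv v hv hvN h hh
    have e2 := hinv w hw hwN h hh
    rw [mul_inv_eq_iff_eq_mul] at e1 e2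
    calc w⁻¹ * v * h = w⁻¹ * (v * h) := by group
      _ = w⁻¹ * (h⁻¹ * w) * w⁻¹ * v := by rw [e1]; group
      _ = w⁻¹ * (w * h) * w⁻¹ * v := by rw [e2]
      _ = h * (w⁻¹ * v) := by group

namespace Fork

variable (F : Fork G n1 n2 n3) (hna : ¬ IsMulCommutative G)
include F hna

theorem impossible (h2 : 2 ∣ Nat.card G) : False := by
  classical
  haveI := Fintype.ofFinite G
  haveI : Fact (Nat.Prime 2) := ⟨Nat.prime_two⟩
  obtain ⟨H, hH, hcard, hidx⟩ := F.exists_hall hna
  obtain ⟨s, x, hs, hs2, hxs, hx, hx1⟩ := F.exists_axis hna hH hcard hidx h2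
  have hodd1 := F.odd_one hna
  have hoddH : Odd (Nat.card H) := hcard.symm ▸ hodd1
  have inv2 : ∀ u : G, orderOf u = 2 → cI u = n2 := fun u => F.involution_two hna hH hcard hidx
  have hex : ∀ u : G, orderOf u = 2 → ∃ c, IsConj x c ∧ Commute u c := fun u =>
    F.exists_axis_of hna hH hcard hidx h2 hs hs2 hxs hx hx1
  have huniq : ∀ u c c' : G, orderOf u = 2 → IsConj x c → IsConj x c' → Commute u c → Commute u c' → c' = c :=
    fun u c c' => F.axis_unique hna hH hcard hidx h2 hs hs2 hxs hx hx1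
  set ax : G → G := fun u => if h : orderOf u = 2 then (hex u h).choose else 1 with hax
  have hax1 : ∀ u, orderOf u = 2 → IsConj x (ax u) ∧ Commute u (ax u) := fun u hu => by
    simp only [hax, dif_pos hu]; exact (hex u hu).choose_spec
  have haxu : ∀ u c, orderOf u = 2 → IsConj x c → Commute u c → ax u = c := fun u c hu hc h =>
    huniq u c (ax u) hu hc (hax1 u hu).1 h (hax1 u hu).2
  have hcomm : ∀ u v, orderOf u = 2 → orderOf v = 2 → (Commute u v ↔ ax u = ax v) := by
    intro u v hu hv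
    refine ⟨fun h => (haxu v (ax u) hv (hax1 u hu).1 ?_).symm, fun h => ?_⟩
    · exact mem_centralizer_singleton_iff.1 ((F.cent_le hna hH hcard hidx h2 hs hs2 hxs hx hx1 hu
        (hax1 u hu).1 (hax1 u hu).2) (mem_centralizer_singleton_iff.2 h.symm.eq))
    · exact F.commute_of_axis hna hH hcard hidx h2 hs hs2 hxs hx hx1 hu hv (hax1 u hu).1 (hax1 u hu).2
        (h ▸ (hax1 v hv).2)
  have hco : ∀ g u, orderOf u = 2 → ax (g * u * g⁻¹) = g * ax u * g⁻¹ := fun g u hu =>
    haxu _ _ ((CfsgLib.Signalizer.orderOf_conj g u).trans hu)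
      ((hax1 u hu).1.trans (isConj_iff.2 ⟨g, rfl⟩)) ((hax1 u hu).2.map (MulAut.conj g).toMonoidHom)
  obtain ⟨u0, hu0⟩ := exists_prime_orderOf_dvd_card' 2 h2
  -- some involution has another axis
  have hother : ∀ c : G, IsConj x c → ∃ w, orderOf w = 2 ∧ ax w ≠ c := by
    intro c hc
    by_contra hcon
    push Not at hcon
    have hcZ : c ∈ center G := mem_center_iff.2 fun g => by
      have h := hco g u0 hu0
      rw [hcon _ ((CfsgLib.Signalizer.orderOf_conj g u0).trans hu0), hcon _ hu0] at h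
      exact (eq_mul_inv_iff_mul_eq.1 h).symm
    obtain ⟨g, rfl⟩ := isConj_iff.1 hc
    exact notMem_center hna (fun e => hx (conj_eq_one_iff.1 e)) hcZ
  -- noncommuting involutions and the normaliser
  have hprod : ∀ u v, orderOf u = 2 → orderOf v = 2 → ¬ Commute u v →
      ∃ q : G, q * (u * v) * q⁻¹ ∈ H ∧ q * u * q⁻¹ ∈ normalizer (H : Set G) ∧
        q * v * q⁻¹ ∈ normalizer (H : Set G) := by
    intro u v hu hv huv
    obtain ⟨hne, q, hq⟩ := F.product_mem hna hH hcard hidx h2 hs hs2 hxs hx hx1 hu hv huv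
    have hq1 : q * (u * v) * q⁻¹ ≠ 1 := fun e => hne (conj_eq_one_iff.1 e)
    have hqu : q * u * q⁻¹ ∈ normalizer (H : Set G) := by
      refine hH.ti hq hq1 ?_
      have : (q * u * q⁻¹)⁻¹ * (q * (u * v) * q⁻¹) * (q * u * q⁻¹) = (q * (u * v) * q⁻¹)⁻¹ := by
        calc (q * u * q⁻¹)⁻¹ * (q * (u * v) * q⁻¹) * (q * u * q⁻¹) = q * (v * u) * q⁻¹ := by group
          _ = q * (v⁻¹ * u⁻¹) * q⁻¹ := by rw [Signalizer.involution_inv hu, Signalizer.involution_inv hv]
          _ = _ := by group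
      rw [this]
      exact inv_mem hq
    refine ⟨q, hq, hqu, ?_⟩
    rw [show q * v * q⁻¹ = (q * u * q⁻¹)⁻¹ * (q * (u * v) * q⁻¹) by group]
    exact mul_mem (inv_mem hqu) (le_normalizer hq)
  obtain ⟨u1, hu1, hne1⟩ := hother (ax u0) (hax1 u0 hu0).1
  have hn01 : ¬ Commute u0 u1 := fun h => hne1 ((hcomm u0 u1 hu0 hu1).1 h).symm
  obtain ⟨q0, -, hwN, -⟩ := hprod u0 u1 hu0 hu1 hn01
  set w := q0 * u0 * q0⁻¹ with hwdef
  have hw : orderOf w = 2 := (CfsgLib.Signalizer.orderOf_conj q0 u0).trans hu0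
  obtain ⟨hW1, hW2⟩ := hH.invol_normalizer hoddH hw hwN
  -- one class
  have hconjN : ∀ v, orderOf v = 2 → v ∈ normalizer (H : Set G) → IsConj w v := fun v hv hvN => by
    have := (hW1 _ (hW2 v hv hvN)).2.2
    rwa [mul_inv_cancel_left] at this
  have hconj_nc : ∀ u v, orderOf u = 2 → orderOf v = 2 → ¬ Commute u v → IsConj w u := by
    intro u v hu hv huv
    obtain ⟨q, -, hqu, -⟩ := hprod u v hu hv huv
    exact (hconjN _ ((CfsgLib.Signalizer.orderOf_conj q u).trans hu) hqu).trans
      (isConj_iff.2 ⟨q⁻¹, by group⟩)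
  have hclass : ∀ u, orderOf u = 2 → IsConj w u := by
    intro u hu
    obtain ⟨v, hv, hvne⟩ := hother (ax u) (hax1 u hu).1
    exact hconj_nc u v hu hv fun h => hvne ((hcomm u v hu hv).1 h).symm
  set I := invol G
  have hI : I.card = n2 := by
    have hset : I = (ConjClasses.mk w).carrier.toFinset := by
      ext u
      rw [mem_invol, Set.mem_toFinset, ConjClasses.mem_carrier_iff_mk_eq, ConjClasses.mk_eq_mk_iff_isConj]
      refine ⟨fun h => (hclass u h).symm, fun h => ?_⟩
      obtain ⟨g, rfl⟩ := isConj_iff.1 h.symm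
      exact (CfsgLib.Signalizer.orderOf_conj g w).trans hw
    rw [hset, Set.toFinset_card, ← Nat.card_eq_fintype_card, CfsgLib.Char.card_carrier_eq_index]
    exact inv2 w hw
  set i := (I.filter fun u => ax u = x).card with hi
  have hfib : ∀ c, IsConj x c → (I.filter fun u => ax u = c).card = i := by
    intro c hc
    obtain ⟨g, rfl⟩ := isConj_iff.1 hc
    refine (Finset.card_bij' (fun u _ => g * u * g⁻¹) (fun u _ => g⁻¹ * u * g) (fun u hu => ?_) (fun u hu => ?_)
      (fun u _ => by group) (fun u _ => by group)).symm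
    · simp only [Finset.mem_filter, I, mem_invol] at hu ⊢
      exact ⟨(CfsgLib.Signalizer.orderOf_conj g u).trans hu.1, by rw [hco g u hu.1, hu.2]⟩
    · simp only [Finset.mem_filter, I, mem_invol] at hu ⊢
      have ho : orderOf (g⁻¹ * u * g) = 2 := by
        rw [show g⁻¹ * u * g = g⁻¹ * u * g⁻¹⁻¹ by group, CfsgLib.Signalizer.orderOf_conj]; exact hu.1
      refine ⟨ho, ?_⟩
      rw [show g⁻¹ * u * g = g⁻¹ * u * g⁻¹⁻¹ by group, hco g⁻¹ u hu.1, hu.2]
      group
  have hT : n2 = n1 * i := by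
    rw [← hI, Finset.card_eq_sum_card_fiberwise (f := ax) (t := (ConjClasses.mk x).carrier.toFinset)
      (fun u hu => by
        rw [Finset.mem_coe, Set.mem_toFinset, ConjClasses.mem_carrier_iff_mk_eq, ConjClasses.mk_eq_mk_iff_isConj]
        exact (hax1 u (mem_invol.1 hu)).1.symm),
      Finset.sum_congr rfl (g := fun _ => i) (fun c hc => hfib c (by
        rw [Set.mem_toFinset, ConjClasses.mem_carrier_iff_mk_eq, ConjClasses.mk_eq_mk_iff_isConj] at hc
        exact hc.symm)), Finset.sum_const, smul_eq_mul, Set.toFinset_card, ← Nat.card_eq_fintype_card,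
      CfsgLib.Char.card_carrier_eq_index]
    rw [show (centralizer ({x} : Set G)).index = n1 from hx1]
  have hiodd : Odd i := (Nat.odd_mul.1 (hT ▸ F.odd_two hna hH hcard hidx h2)).2
  -- pairs
  set P := (I ×ˢ I).filter fun p => ¬ Commute p.1 p.2
  have hP1 : P.card + n2 * i = n2 * n2 := by
    have hQ : ((I ×ˢ I).filter fun p => Commute p.1 p.2).card = n2 * i := by
      rw [Finset.card_eq_sum_card_fiberwise (f := Prod.fst) (t := I)
        (fun p hp => (Finset.mem_product.1 (Finset.mem_filter.1 hp).1).1),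
        Finset.sum_congr rfl (g := fun _ => i) (fun u hu => ?_), Finset.sum_const, smul_eq_mul, hI]
      have hu' := mem_invol.1 hu
      rw [← hfib (ax u) (hax1 u hu').1]
      refine Finset.card_bij' (fun p _ => p.2) (fun v _ => (u, v)) ?_ ?_ ?_ ?_
      · intro p hp
        simp only [Finset.mem_filter, Finset.mem_product, I, mem_invol] at hp ⊢
        obtain ⟨⟨⟨hp1, hp2⟩, hc⟩, rfl⟩ := hp
        exact ⟨hp2, ((hcomm _ _ hp1 hp2).1 hc).symm⟩
      · intro v hv
        simp only [Finset.mem_filter, Finset.mem_product, I, mem_invol] at hv ⊢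
        exact ⟨⟨⟨hu', hv.1⟩, (hcomm _ _ hu' hv.1).2 hv.2.symm⟩, trivial⟩
      · intro p hp
        simp only [Finset.mem_filter] at hp
        exact Prod.ext hp.2.symm rfl
      · intros; rfl
    rw [← hQ, add_comm, Finset.card_filter_add_card_filter_not, Finset.card_product, hI]
  have hP2 : P.card = (tiUnion H).card * n1 := by
    rw [Finset.card_eq_sum_card_fiberwise (f := fun p : G × G => p.1 * p.2) (t := tiUnion H) (fun p hp => ?_),
      Finset.sum_congr rfl (g := fun _ => n1) (fun a ha => ?_), Finset.sum_const, smul_eq_mul]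
    · simp only [tiUnion, Finset.mem_filter, Finset.mem_univ, true_and] at ha
      obtain ⟨ha1, q, hq⟩ := ha
      rw [← hcard, Nat.card_eq_fintype_card, ← Finset.card_univ]
      have hq1 : q⁻¹ * a * q ≠ 1 := fun e => ha1 (by
        calc a = q * (q⁻¹ * a * q) * q⁻¹ := by group
          _ = 1 := by rw [e]; group)
      have hback : ∀ p : G × G, orderOf p.1 = 2 → orderOf p.2 = 2 → p.1 * p.2 = a →
          w⁻¹ * (q⁻¹ * p.1 * q) ∈ H := by
        intro p h1 h2' hp
        have ho : orderOf (q⁻¹ * p.1 * q) = 2 := by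
          rw [show q⁻¹ * p.1 * q = q⁻¹ * p.1 * q⁻¹⁻¹ by group, CfsgLib.Signalizer.orderOf_conj]; exact h1
        refine hW2 _ ho (hH.ti hq hq1 ?_)
        rw [← hp]
        have : (q⁻¹ * p.1 * q)⁻¹ * (q⁻¹ * (p.1 * p.2) * q) * (q⁻¹ * p.1 * q) = (q⁻¹ * (p.1 * p.2) * q)⁻¹ := by
          calc (q⁻¹ * p.1 * q)⁻¹ * (q⁻¹ * (p.1 * p.2) * q) * (q⁻¹ * p.1 * q) = q⁻¹ * (p.2 * p.1) * q := by group
            _ = q⁻¹ * (p.2⁻¹ * p.1⁻¹) * q := by
              rw [Signalizer.involution_inv h1, Signalizer.involution_inv h2']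
            _ = _ := by group
        rw [this, hp]
        exact inv_mem hq
      refine Finset.card_bij' (fun p hp => (⟨w⁻¹ * (q⁻¹ * p.1 * q), ?_⟩ : H))
        (fun h _ => (q * (w * (h : G)) * q⁻¹, (q * (w * (h : G)) * q⁻¹) * a)) (fun _ _ => Finset.mem_univ _)
        (fun h _ => ?_) (fun p hp => ?_) (fun h _ => ?_)
      · simp only [P, Finset.mem_filter, Finset.mem_product, I, mem_invol] at hp
        exact hback p hp.1.1.1 hp.1.1.2 hp.2
      · set t := q * (w * (h : G)) * q⁻¹ with ht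
        have hto : orderOf t = 2 := (CfsgLib.Signalizer.orderOf_conj q _).trans (hW1 h h.2).1
        have ht2 : orderOf (t * a) = 2 := by
          have hh' : (h : G) * (q⁻¹ * a * q) ∈ H := mul_mem h.2 hq
          rw [ht, show q * (w * (h : G)) * q⁻¹ * a = q * (w * ((h : G) * (q⁻¹ * a * q))) * q⁻¹ by group,
            CfsgLib.Signalizer.orderOf_conj]
          exact (hW1 _ hh').1
        have hprod' : t * (t * a) = a := by rw [← mul_assoc, Signalizer.involution_sq hto, one_mul]
        simp only [P, Finset.mem_filter, Finset.mem_product, I, mem_invol]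
        refine ⟨⟨⟨hto, ht2⟩, fun hc => ?_⟩, hprod'⟩
        have hsq : a * a = 1 := by
          calc a * a = (t * (t * a)) * ((t * a) * t) := by rw [← hc.eq, hprod']
            _ = t * ((t * a) * (t * a)) * t := by group
            _ = 1 := by rw [Signalizer.involution_sq ht2, mul_one, Signalizer.involution_sq hto]
        have ho2 : orderOf (q⁻¹ * a * q) = 2 := Signalizer.orderOf_eq_two_of hq1 (by
          calc q⁻¹ * a * q * (q⁻¹ * a * q) = q⁻¹ * (a * a) * q := by group
            _ = 1 := by rw [hsq]; group)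
        have := Subgroup.orderOf_dvd_natCard H hq
        rw [ho2] at this
        exact hoddH.not_two_dvd_nat this
      · simp only [P, Finset.mem_filter, Finset.mem_product, I, mem_invol] at hp
        have h1 : q * (w * (w⁻¹ * (q⁻¹ * p.1 * q))) * q⁻¹ = p.1 := by group
        refine Prod.ext h1 ?_
        show q * (w * (w⁻¹ * (q⁻¹ * p.1 * q))) * q⁻¹ * a = p.2
        rw [h1, ← hp.2, ← mul_assoc, Signalizer.involution_sq hp.1.1.1, one_mul]
      · exact Subtype.ext (by simp [mul_assoc])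
    · simp only [P, Finset.mem_coe, Finset.mem_filter, Finset.mem_product, I, mem_invol] at hp
      obtain ⟨⟨h1, h2'⟩, hnc⟩ := hp
      obtain ⟨hne, q, hq⟩ := F.product_mem hna hH hcard hidx h2 hs hs2 hxs hx hx1 h1 h2' hnc
      simp only [tiUnion, Finset.mem_coe, Finset.mem_filter, Finset.mem_univ, true_and]
      exact ⟨hne, q⁻¹, by simpa using hq⟩
  set e := H.relIndex (normalizer (H : Set G)) with he
  have hU : e * (tiUnion H).card + n3 = n3 * n1 := by
    haveI := Fintype.ofFinite H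
    have h := sum_tiUnion hH (fun _ => (1 : ℂ)) (fun _ _ => rfl)
    simp only [Finset.sum_const, Finset.card_univ, nsmul_eq_mul, mul_one, ← Nat.card_eq_fintype_card,
      hcard, hidx, ← he] at h
    have h' : (e : ℂ) * ((tiUnion H).card : ℂ) + n3 = (n3 : ℂ) * n1 := by rw [h]; ring
    exact_mod_cast h'
  have hei : n3 = e * i * i := by
    have h1 : (P.card : ℤ) + n2 * i = n2 * n2 := by exact_mod_cast hP1
    have h2' : (P.card : ℤ) = (tiUnion H).card * n1 := by exact_mod_cast hP2
    have h3 : (e : ℤ) * (tiUnion H).card + n3 = n3 * n1 := by exact_mod_cast hU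
    have h4 : (n2 : ℤ) = n1 * i := by exact_mod_cast hT
    have h5 : ((n3 : ℤ) - e * i * i) * ((n1 : ℤ) * ((n1 : ℤ) - 1)) = 0 := by
      rw [h2', h4] at h1
      linear_combination (e : ℤ) * h1 - (n1 : ℤ) * h3
    rcases mul_eq_zero.1 h5 with h | h
    · have : (n3 : ℤ) = e * i * i := by linarith
      exact_mod_cast this
    · exfalso
      have h' : (1 : ℤ) < n1 := by exact_mod_cast F.lt1
      rcases mul_eq_zero.1 h with h | h <;> linarith
  have hNodd : ¬ 2 ∣ (normalizer (H : Set G)).index := by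
    have h := relIndex_mul_index (le_normalizer : H ≤ normalizer (H : Set G))
    rw [← he, hidx, hei, mul_assoc] at h
    have he0 : e ≠ 0 := fun h0 => by rw [h0, zero_mul, zero_mul] at hei; linarith [F.lt3]
    rw [mul_left_cancel₀ he0 h]
    exact (hiodd.mul hiodd).not_two_dvd_nat
  obtain ⟨S, hS⟩ := ClassSizesPSL.exists_sylow_le (r := 2) hNodd
  obtain ⟨⟨u, huS⟩, hu⟩ := exists_prime_orderOf_dvd_card' 2 (S.dvd_card_of_dvd_card h2)
  rw [orderOf_mk] at hu
  refine not_isolated hna S hu huS fun g hg => ?_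
  have ho : orderOf (g * u * g⁻¹) = 2 := (CfsgLib.Signalizer.orderOf_conj g u).trans hu
  obtain ⟨hU1, hU2⟩ := hH.invol_normalizer hoddH hu (hS huS)
  have hmH := hU2 _ ho (hS hg)
  have hmS : u⁻¹ * (g * u * g⁻¹) ∈ (S : Subgroup G) := mul_mem (inv_mem huS) hg
  obtain ⟨k, hk⟩ := S.2 ⟨_, hmS⟩
  have h2k : orderOf (u⁻¹ * (g * u * g⁻¹)) ∣ 2 ^ k := orderOf_dvd_of_pow_eq_one (congrArg Subtype.val hk)
  have hone : u⁻¹ * (g * u * g⁻¹) = 1 := orderOf_eq_one_iff.1 (Nat.eq_one_of_dvd_coprimes
    ((Nat.prime_two.coprime_iff_not_dvd.2 hoddH.not_two_dvd_nat).pow_left k) h2k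
    (Subgroup.orderOf_dvd_natCard H hmH))
  exact (inv_mul_eq_one.1 hone).symm

end Fork

end CfsgLib.Recog.RankThree
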