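import Cfsg.Agent.Lib.Recog.RankThree.CC

/-!
# Two comparable class sizes and one incomparable to both: the Hall subgroup

`Fork` : every size is `n₁`, `n₂` or `n₃` with `n₁ ∣ n₂` properly, `n₁` prime to `n₃` and `n₂`, `n₃` incomparable.
The centraliser of an element of size `n₃` is a CC Hall subgroup of order `n₁`, and `n₁` is odd.
-/

set_option autoImplicit false
set_option linter.all false

namespace CfsgLib.Recog.RankThree

open Subgroup
open CfsgLib.Recog.ClassSizesPSL (cI cC IsREl)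

variable {G : Type*} [Group G] [Finite G]

/-- The arrangement of the sizes. -/
structure Fork (G : Type*) [Group G] (n1 n2 n3 : ℕ) : Prop where
  val : ∀ x : G, x ≠ 1 → cI x = n1 ∨ cI x = n2 ∨ cI x = n3
  one : ∃ x : G, x ≠ 1 ∧ cI x = n1
  three : ∃ x : G, x ≠ 1 ∧ cI x = n3
  lt1 : 1 < n1
  lt3 : 1 < n3
  dvd : n1 ∣ n2
  lt2 : n1 < n2
  co : n1.Coprime n3
  nd23 : ¬ n2 ∣ n3
  nd32 : ¬ n3 ∣ n2

namespace Fork

variable {n1 n2 n3 : ℕ} (F : Fork G n1 n2 n3)
include F

theorem nd13 : ¬ n1 ∣ n3 := fun h => F.lt1.ne' (Nat.Coprime.eq_one_of_dvd F.co h)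

theorem nd31 : ¬ n3 ∣ n1 := fun h => F.lt3.ne' (Nat.Coprime.eq_one_of_dvd F.co.symm h)

theorem nd21 : ¬ n2 ∣ n1 := fun h => (Nat.le_of_dvd (by linarith [F.lt1]) h).not_gt F.lt2

theorem min_one (z : G) (hz : z ≠ 1) (h : cI z ∣ n1) : cI z = n1 := by
  rcases F.val z hz with e | e | e <;> rw [e] at h ⊢
  · exact absurd h F.nd21
  · exact absurd h F.nd31

theorem min_three (z : G) (hz : z ≠ 1) (h : cI z ∣ n3) : cI z = n3 := by
  rcases F.val z hz with e | e | e <;> rw [e] at h ⊢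
  · exact absurd h F.nd13
  · exact absurd h F.nd23

theorem max_two {w : G} (h : n2 ∣ cI w) : cI w = n2 := by
  by_cases hw : w = 1
  · rw [hw, ClassSizesPSL.cI_eq_one_iff.2 (one_mem _)] at h
    have := Nat.eq_one_of_dvd_one h
    linarith [F.lt1, F.lt2]
  rcases F.val w hw with e | e | e <;> rw [e] at h ⊢
  · exact absurd h F.nd21
  · exact absurd h F.nd23

theorem max_three {w : G} (h : n3 ∣ cI w) : cI w = n3 := by
  by_cases hw : w = 1
  · rw [hw, ClassSizesPSL.cI_eq_one_iff.2 (one_mem _)] at h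
    exact absurd (Nat.eq_one_of_dvd_one h) F.lt3.ne'
  rcases F.val w hw with e | e | e <;> rw [e] at h ⊢
  · exact absurd h F.nd31
  · exact absurd h F.nd32

variable [IsSimpleGroup G] (hna : ¬ IsMulCommutative G)
include hna

theorem step {r r' : ℕ} (hr : r.Prime) (hr' : r'.Prime) (hne : r ≠ r') {v w : G} (hv : v ≠ 1) (hw : w ≠ 1)
    (hvr : IsREl r v) (hwr : IsREl r' w) (hc : Commute v w) (hw3 : cI w = n3) :
    centralizer ({v} : Set G) = centralizer ({w} : Set G) := by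
  have hco := hvr.orderOf_coprime hr hr' hne hwr
  obtain ⟨h1, h2⟩ := ClassSizesPSL.cI_dvd_mul hc hco
  have hm := ClassSizesPSL.centralizer_mul hc hco
  have h3 : cI (v * w) = n3 := F.max_three (hw3 ▸ h2)
  have hv3 : cI v = n3 := by
    rcases F.val v hv with e | e | e
    · exact absurd hc (not_commute hna hv hw (by rw [e, hw3]; exact F.co))
    · exact absurd (e ▸ h3 ▸ h1) F.nd23
    · exact e
  rw [← ClassSizesPSL.eq_of_le_of_cI_eq (x := v * w) (y := v) (by rw [hm]; exact inf_le_left) (h3.trans hv3.symm),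
    ← ClassSizesPSL.eq_of_le_of_cI_eq (x := v * w) (y := w) (by rw [hm]; exact inf_le_right) (h3.trans hw3.symm)]

theorem card_G : Nat.card G = n1 * n3 := by
  obtain ⟨x0, hx0, hx01⟩ := F.one
  obtain ⟨z0, hz0, hz03⟩ := F.three
  obtain ⟨s, x, hs, hxs, hx, hx1⟩ := exists_primary_of_min hna F.min_one hx0 hx01
  obtain ⟨t, z, ht, hzt, hz, hz3⟩ := exists_primary_of_min hna F.min_three hz0 hz03
  have h := (inf_bot_of_three hna hs ht hx hz hxs hzt (by rw [hx1, hz3]; exact F.co)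
    fun d hd h1 h3 w hw => ?_).2
  · rw [← h, hx1, hz3]
  · rcases F.val d hd with e | e | e
    · exact absurd (e.trans hx1.symm) h1
    · rw [e] at hw ⊢; exact F.max_two hw
    · exact absurd (e.trans hz3.symm) h3

theorem exists_hall : ∃ H : Subgroup G, IsCCHall H ∧ Nat.card H = n1 ∧ H.index = n3 := by
  obtain ⟨z0, hz0, hz03⟩ := F.three
  obtain ⟨t, z, ht, hzt, hz, hz3⟩ := exists_primary_of_min hna F.min_three hz0 hz03
  obtain ⟨H, hHdef⟩ : ∃ H : Subgroup G, H = centralizer ({z} : Set G) := ⟨_, rfl⟩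
  have hidx : H.index = n3 := hHdef ▸ hz3
  have hcard : Nat.card H = n1 := by
    have h := H.card_mul_index
    rw [hidx, F.card_G hna] at h
    exact Nat.eq_of_mul_eq_mul_right (by linarith [F.lt3]) h
  obtain ⟨x0, hx0, hx01⟩ := F.one
  obtain ⟨r, hr, hrd, hrt⟩ : ∃ r, r.Prime ∧ r ∣ Nat.card H ∧ r ≠ t := by
    by_contra hcon
    push Not at hcon
    have h := Nat.eq_prime_pow_of_unique_prime_dvd (Nat.card_pos (α := H)).ne'
      (fun {d} hd hdd => hcon d hd hdd)
    exact not_prime_pow hna hx0 ht _ (by rw [hx01, ← hcard]; exact h)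
  haveI := Fact.mk hr
  obtain ⟨⟨w, hwH⟩, hw⟩ := exists_prime_orderOf_dvd_card' r hrd
  rw [orderOf_mk] at hw
  have hw1 : w ≠ 1 := fun h => hr.ne_one (by rw [← hw, h, orderOf_one])
  have hwr : IsREl r w := ⟨1, by rw [pow_one, ← hw]; exact pow_orderOf_eq_one w⟩
  have hwz : Commute w z := mem_centralizer_singleton_iff.1 (hHdef ▸ hwH)
  have hCw : centralizer ({w} : Set G) = H := hHdef ▸ F.step hna hr ht hrt hw1 hz hwr hzt hwz hz3
  have hw3 : cI w = n3 := by rw [← hidx, ← hCw]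
  have hprim : ∀ (p : ℕ) (v : G), p.Prime → IsREl p v → v ≠ 1 → v ∈ H → centralizer ({v} : Set G) = H := by
    intro p v hp hvp hv hvH
    by_cases hpt : p = t
    · rw [F.step hna hp hr (hpt ▸ hrt.symm) hv hw1 hvp hwr
        (mem_centralizer_singleton_iff.1 (hCw ▸ hvH)) hw3, hCw]
    · rw [F.step hna hp ht hpt hv hz hvp hzt (mem_centralizer_singleton_iff.1 (hHdef ▸ hvH)) hz3, hHdef]
  have hcent : ∀ h ∈ H, h ≠ 1 → centralizer ({h} : Set G) = H := by
    intro h hh h1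
    obtain ⟨p, y, hp, hyp, hyh, hyc⟩ := ClassSizesPSL.exists_primary (notMem_center hna h1)
    have hy1 : y ≠ 1 := fun e => hyc (e ▸ one_mem _)
    have hy := hprim p y hp hyp hy1 ((zpowers_le.2 hh) hyh)
    have hle := CfsgLib.ClassSizes.TwoSizes.centralizer_le_of_mem hyh
    rw [hy] at hle
    have he : cI h = n3 := F.max_three (hidx ▸ index_dvd_of_le hle)
    rw [← hy]
    refine ClassSizesPSL.eq_of_le_of_cI_eq (by rw [hy]; exact hle) ?_
    rw [he, ← hidx, ← hy]
  refine ⟨H, ⟨fun e => F.lt1.ne (by rw [← hcard, e, card_bot]), ⟨⟨fun a b => ?_⟩⟩, hcent,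
    by rw [hcard, hidx]; exact F.co⟩, hcard, hidx⟩
  by_cases hb : (b : G) = 1
  · rw [show b = 1 from Subtype.ext hb, mul_one, one_mul]
  · exact Subtype.ext (mem_centralizer_singleton_iff.1 ((hcent b b.2 hb).symm ▸ a.2 : (a : G) ∈ centralizer {(b : G)}))

theorem odd_one : Odd n1 := by
  obtain ⟨H, hH, hcard, -⟩ := F.exists_hall hna
  obtain ⟨x, hx, hx1⟩ := F.one
  rw [← Nat.not_even_iff_odd, even_iff_two_dvd]
  intro h2
  haveI : Fact (Nat.Prime 2) := ⟨Nat.prime_two⟩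
  obtain ⟨k, hk⟩ := IsPGroup.iff_card.1 (hH.isPGroup_two hna (hcard ▸ h2))
  exact not_prime_pow hna hx Nat.prime_two k (by rw [hx1, ← hcard, hk])

end Fork

end CfsgLib.Recog.RankThree
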