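import Cfsg.Agent.Lib.Recog.RankThree.Sharp
import Cfsg.Agent.Lib.Recog.RankThree.Antichain
import Cfsg.Agent.Lib.Recog.RankThree.ForkCount
import Cfsg.Agent.S0205
import Cfsg.Agent.S2507

/-!
# Simple groups with exactly three nontrivial class sizes
-/

set_option autoImplicit false
set_option linter.all false

namespace CfsgLib.Recog.RankThree

open Subgroup
open CfsgLib.Recog.ClassSizesPSL (cI cC IsREl)

variable {G : Type*} [Group G] [Finite G] [IsSimpleGroup G] (hna : ¬ IsMulCommutative G)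
include hna

/-- Two coprime sizes dividing the third are impossible. -/
theorem meet_impossible {a b c : ℕ} (hval : ∀ x : G, x ≠ 1 → cI x = a ∨ cI x = b ∨ cI x = c)
    (hea : ∃ x : G, x ≠ 1 ∧ cI x = a) (heb : ∃ x : G, x ≠ 1 ∧ cI x = b) (hec : ∃ x : G, x ≠ 1 ∧ cI x = c)
    (ha : 1 < a) (hb : 1 < b) (hac : a ∣ c) (hbc : b ∣ c) (hne1 : a ≠ c) (hne2 : b ≠ c)
    (hco : a.Coprime b) : False := by
  have hnab : ¬ a ∣ b := fun h => ha.ne' (Nat.Coprime.eq_one_of_dvd hco h)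
  have hnba : ¬ b ∣ a := fun h => hb.ne' (Nat.Coprime.eq_one_of_dvd hco.symm h)
  obtain ⟨d, hd, hdc⟩ := hec
  have hc0 : 0 < c := hdc ▸ cI_pos d
  have hnca : ¬ c ∣ a := fun h => hne1 (Nat.dvd_antisymm hac h)
  have hncb : ¬ c ∣ b := fun h => hne2 (Nat.dvd_antisymm hbc h)
  have mina : ∀ z : G, z ≠ 1 → cI z ∣ a → cI z = a := fun z hz h => by
    rcases hval z hz with e | e | e <;> rw [e] at h ⊢
    · exact absurd h hnba
    · exact absurd h hnca
  have minb : ∀ z : G, z ≠ 1 → cI z ∣ b → cI z = b := fun z hz h => by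
    rcases hval z hz with e | e | e <;> rw [e] at h ⊢
    · exact absurd h hnab
    · exact absurd h hncb
  obtain ⟨x0, hx0, hx0a⟩ := hea
  obtain ⟨y0, hy0, hy0b⟩ := heb
  obtain ⟨s, x, hs, hxs, hx, hxa⟩ := exists_primary_of_min hna mina hx0 hx0a
  obtain ⟨t, y, ht, hyt, hy, hyb⟩ := exists_primary_of_min hna minb hy0 hy0b
  have h := (inf_bot_of_three hna hs ht hx hy hxs hyt (by rw [hxa, hyb]; exact hco)
    fun e he h1 h2 w hw => ?_).2
  · rw [hxa, hyb] at h
    have hle : a * b ≤ c := Nat.le_of_dvd hc0 (hco.mul_dvd_of_dvd_of_dvd hac hbc)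
    have h2 : 2 ≤ cC d := by
      have hmem : d ∈ centralizer ({d} : Set G) := mem_centralizer_singleton_iff.2 rfl
      haveI : Nontrivial (centralizer ({d} : Set G)) :=
        (nontrivial_iff_ne_bot _).2 fun e => hd (mem_bot.1 (e ▸ hmem))
      exact Finite.one_lt_card
    have h3 := cC_mul_cI d
    rw [hdc, ← h] at h3
    nlinarith
  · rcases hval e he with e' | e' | e'
    · exact absurd (e'.trans hxa.symm) h1
    · exact absurd (e'.trans hyb.symm) h2
    · rw [e'] at hw ⊢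
      by_cases hw1 : w = 1
      · rw [hw1, ClassSizesPSL.cI_eq_one_iff.2 (one_mem _)] at hw
        exact absurd ((Nat.eq_one_of_dvd_one hw) ▸ hac) (fun h => ha.ne' (Nat.eq_one_of_dvd_one h))
      rcases hval w hw1 with e'' | e'' | e'' <;> rw [e''] at hw ⊢
      · exact absurd hw hnca
      · exact absurd hw hncb

omit hna in
theorem exists_not_dvd {p : ℕ} (hp : p.Prime) (hpG : p ∣ Nat.card G) : ∃ z : G, z ≠ 1 ∧ ¬ p ∣ cI z := by
  haveI := Fact.mk hp
  obtain ⟨S⟩ := (inferInstance : Nonempty (Sylow p G))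
  haveI : Nontrivial (S : Subgroup G) := by
    rw [nontrivial_iff_ne_bot]
    intro e
    have h := S.dvd_card_of_dvd_card hpG
    rw [e, card_bot] at h
    exact hp.not_dvd_one h
  haveI := S.2.center_nontrivial
  obtain ⟨z, hz⟩ := exists_ne (1 : center (S : Subgroup G))
  exact ⟨_, fun h => hz (Subtype.ext (Subtype.ext h)), fun hd => S.not_dvd_index (hd.trans
    (index_dvd_of_le fun a ha => mem_centralizer_singleton_iff.2
      (congrArg Subtype.val (mem_center_iff.1 z.2 ⟨a, ha⟩))))⟩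

theorem psl_of_three {a b c : ℕ} (hab : a ≠ b) (hac : a ≠ c) (hbc : b ≠ c)
    (hval : ∀ x : G, x ≠ 1 → cI x = a ∨ cI x = b ∨ cI x = c)
    (hea : ∃ x : G, x ≠ 1 ∧ cI x = a) (heb : ∃ x : G, x ≠ 1 ∧ cI x = b) (hec : ∃ x : G, x ≠ 1 ∧ cI x = c) :
    ∃ (m : ℕ) (F : Type) (_ : Field F) (_ : Fintype F), 2 ≤ m ∧ Fintype.card F = 2 ^ m ∧
      Nonempty (G ≃* Matrix.ProjectiveSpecialLinearGroup (Fin 2) F) := by
  have h2 : 2 ∣ Nat.card G := by
    by_contra h
    exact not_solvable hna (Cfsg.Agent.S0205.result (Nat.odd_iff.2 (Nat.two_dvd_ne_zero.1 h)))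
  have hgt : ∀ n, (∃ x : G, x ≠ 1 ∧ cI x = n) → 1 < n := by
    rintro n ⟨x, hx, rfl⟩
    have := cI_pos x
    have := cI_ne_one hna hx
    omega
  have nocommon : ∀ p, p.Prime → p ∣ a → p ∣ b → p ∣ c → False := by
    intro p hp ha hb hc
    obtain ⟨x, -, rfl⟩ := hea
    obtain ⟨z, hz, hzn⟩ := exists_not_dvd hp (ha.trans (index_dvd_card _))
    rcases hval z hz with e | e | e
    exacts [hzn (e ▸ ha), hzn (e ▸ hb), hzn (e ▸ hc)]
  by_cases hanti : ∀ x y : G, x ≠ 1 → y ≠ 1 → cI x ∣ cI y → cI x = cI y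
  · obtain ⟨H, hH, hH2, hp⟩ := exists_cc_two hna hanti
    exact psl_of_cc_two hna hH hH2 hp hval
  exfalso
  push Not at hanti
  obtain ⟨x, y, hx, hy, hdvd, hne⟩ := hanti
  have arrange : ∀ p q r : ℕ, p ≠ q → p ≠ r → q ≠ r →
      (∀ x : G, x ≠ 1 → cI x = p ∨ cI x = q ∨ cI x = r) →
      (∃ x : G, x ≠ 1 ∧ cI x = p) → (∃ x : G, x ≠ 1 ∧ cI x = q) → (∃ x : G, x ≠ 1 ∧ cI x = r) →
      (∀ l, l.Prime → l ∣ p → l ∣ q → l ∣ r → False) → p ∣ q → False := by
    intro p q r hpq hpr hqr hv hp hq hr hcom hd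
    have hp1 := hgt p hp
    obtain ⟨l, hl, hlp⟩ := Nat.exists_prime_and_dvd hp1.ne'
    have hq0 : 0 < q := lt_trans one_pos (hgt q hq)
    have hco : p.Coprime r := Nat.coprime_of_dvd fun l hl h1 h3 => hcom l hl h1 (h1.trans hd) h3
    by_cases hrq : r ∣ q
    · exact meet_impossible hna (a := p) (b := r) (c := q)
        (fun x hx => by rcases hv x hx with e | e | e <;> simp [e]) hp hr hq hp1 (hgt r hr) hd hrq hpq
        (Ne.symm hqr) hco
    · exact Fork.impossible (n1 := p) (n2 := q) (n3 := r) ⟨hv, hp, hr, hp1, hgt r hr, hd,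
        lt_of_le_of_ne (Nat.le_of_dvd hq0 hd) hpq, hco,
        fun h => hcom l hl hlp (hlp.trans hd) ((hlp.trans hd).trans h), hrq⟩ hna h2
  have hv' : ∀ p q r, ({p, q, r} : Finset ℕ) = {a, b, c} → ∀ x : G, x ≠ 1 → cI x = p ∨ cI x = q ∨ cI x = r := by
    intro p q r he x hx
    have h : cI x ∈ ({a, b, c} : Finset ℕ) := by simpa using hval x hx
    rw [← he] at h
    simpa using h
  rcases hval x hx with e | e | e <;> rcases hval y hy with e' | e' | e' <;> rw [e, e'] at hdvd hne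
  · exact hne rfl
  · exact arrange a b c hab hac hbc hval hea heb hec nocommon hdvd
  · exact arrange a c b hac hab hbc.symm (hv' a c b (by ext; simp; tauto)) hea hec heb
      (fun l hl h1 h2 h3 => nocommon l hl h1 h3 h2) hdvd
  · exact arrange b a c hab.symm hbc hac (hv' b a c (by ext; simp; tauto)) heb hea hec
      (fun l hl h1 h2 h3 => nocommon l hl h2 h1 h3) hdvd
  · exact hne rfl
  · exact arrange b c a hbc hab.symm hac.symm (hv' b c a (by ext; simp; tauto)) heb hec hea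
      (fun l hl h1 h2 h3 => nocommon l hl h3 h1 h2) hdvd
  · exact arrange c a b hac.symm hbc.symm hab (hv' c a b (by ext; simp; tauto)) hec hea heb
      (fun l hl h1 h2 h3 => nocommon l hl h2 h3 h1) hdvd
  · exact arrange c b a hbc.symm hac.symm hab.symm (hv' c b a (by ext; simp; tauto)) hec heb hea
      (fun l hl h1 h2 h3 => nocommon l hl h3 h2 h1) hdvd
  · exact hne rfl

omit hna [IsSimpleGroup G] in
/-- The set of sizes of noncentral elements. -/
theorem set_eq (hZ : center G = ⊥) : {m : ℕ | ∃ x : G, x ∉ center G ∧ m = cI x} = {m | ∃ x : G, x ≠ 1 ∧ cI x = m} := by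
  ext m
  simp only [Set.mem_ofPred_eq, hZ, mem_bot]
  exact ⟨fun ⟨x, h1, h2⟩ => ⟨x, h1, h2.symm⟩, fun ⟨x, h1, h2⟩ => ⟨x, h1, h2.symm⟩⟩

end CfsgLib.Recog.RankThree
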