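import Cfsg.Agent.Lib.Recog.RankThree.CC
import Cfsg.Agent.Lib.Perm.ZassenhausAbelianMain
import Cfsg.Agent.Lib.Known.SL2ClassSizes
import Cfsg.Agent.Lib.Recog.SimpleSixty
import Cfsg.Agent.Lib.Geo.PGLTwoBasic
import Cfsg.Agent.Lib.Classical.PSLTwoSimple
import Cfsg.Agent.Lib.Char.Burnside
import Cfsg.Agent.S1230
import Cfsg.Agent.S2508

/-!
# A CC Sylow 2-subgroup and at most three class sizes

Such a simple group is `PSL(2, 2^n)`.
-/

set_option autoImplicit false
set_option linter.all false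

namespace CfsgLib.Recog.RankThree

open Subgroup
open CfsgLib.Recog.ClassSizesPSL (cI cC)

variable {G : Type*} [Group G] [Finite G] [IsSimpleGroup G]

theorem no_four_values {S : Set ℕ} {n1 n2 n3 A B C D : ℕ}
    (hS : S ⊆ {n1, n2, n3}) (hA : A ∈ S) (hB : B ∈ S) (hC : C ∈ S) (hD : D ∈ S)
    (hAB : A ≠ B) (hAC : A ≠ C) (hAD : A ≠ D) (hBC : B ≠ C) (hBD : B ≠ D) (hCD : C ≠ D) : False := by
  have hA' := hS hA
  have hB' := hS hB
  have hC' := hS hC
  have hD' := hS hD
  simp only [Set.mem_insert_iff, Set.mem_singleton_iff] at hA' hB' hC' hD'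
  rcases hA' with rfl | rfl | rfl <;> rcases hB' with rfl | rfl | rfl <;>
    rcases hC' with rfl | rfl | rfl <;> rcases hD' with h | h | h <;> simp_all

theorem odd_psl_excluded {F : Type} [Field F] [Fintype F] (hodd : ¬ 2 ∣ Fintype.card F)
    (h7 : 7 ≤ Fintype.card F) (e : G ≃* Matrix.ProjectiveSpecialLinearGroup (Fin 2) F) {n1 n2 n3 : ℕ}
    (hval : ∀ x : G, x ≠ 1 → cI x = n1 ∨ cI x = n2 ∨ cI x = n3) : False := by
  obtain ⟨h1, h3⟩ := Cfsg.Agent.S2508.result hodd h7
  set q := Fintype.card F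
  have key : ∀ v : ℕ, v ∈ Set.range (fun g : Matrix.ProjectiveSpecialLinearGroup (Fin 2) F =>
      (centralizer ({g} : Set (Matrix.ProjectiveSpecialLinearGroup (Fin 2) F))).index) → v ≠ 1 →
      v ∈ ({n1, n2, n3} : Set ℕ) := by
    rintro v ⟨g, rfl⟩ hv
    have he : cI (e.symm g) = (centralizer ({g} : Set _)).index :=
      CfsgLib.Known.SL2ClassSizes.cs_equiv e.symm g
    have hne : e.symm g ≠ 1 := fun h => hv (by
      simp only
      rw [← he, h]
      exact (ClassSizesPSL.cI_eq_one_iff.2 (one_mem _)))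
    have := hval _ hne
    rw [he] at this
    simpa using this
  have hm : q * q = q ^ 2 := (sq q).symm
  have hq2 : 7 * q ≤ q ^ 2 := by rw [← hm]; exact Nat.mul_le_mul_right q h7
  have e1 : q * (q + 1) = q ^ 2 + q := by ring
  have e2 : q * (q - 1) = q ^ 2 - q := by rw [Nat.mul_sub, mul_one, hm]
  rcases (show q % 4 = 1 ∨ q % 4 = 3 by omega) with h | h
  · have hr := h1 h
    refine no_four_values (S := ({(q ^ 2 - 1) / 2, q * (q + 1) / 2, q * (q - 1), q * (q + 1)} : Set ℕ))
      (fun v hv => key v ?_ ?_) (Or.inl rfl) (Or.inr (Or.inl rfl)) (Or.inr (Or.inr (Or.inl rfl)))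
      (Or.inr (Or.inr (Or.inr rfl))) ?_ ?_ ?_ ?_ ?_ ?_
    · rw [hr]; exact Or.inr hv
    · simp only [Set.mem_insert_iff, Set.mem_singleton_iff] at hv
      rcases hv with rfl | rfl | rfl | rfl <;> omega
    all_goals omega
  · have hr := h3 h
    refine no_four_values (S := ({(q ^ 2 - 1) / 2, q * (q - 1) / 2, q * (q + 1), q * (q - 1)} : Set ℕ))
      (fun v hv => key v ?_ ?_) (Or.inl rfl) (Or.inr (Or.inl rfl)) (Or.inr (Or.inr (Or.inl rfl)))
      (Or.inr (Or.inr (Or.inr rfl))) ?_ ?_ ?_ ?_ ?_ ?_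
    · rw [hr]; exact Or.inr hv
    · simp only [Set.mem_insert_iff, Set.mem_singleton_iff] at hv
      rcases hv with rfl | rfl | rfl | rfl <;> omega
    all_goals omega

variable (hna : ¬ IsMulCommutative G)
include hna

theorem small_odd_psl {F : Type} [Field F] [Fintype F] (hodd : ¬ 2 ∣ Fintype.card F)
    (h7 : Fintype.card F < 7) (e : G ≃* Matrix.ProjectiveSpecialLinearGroup (Fin 2) F) :
    ∃ (F : Type) (_ : Field F) (_ : Fintype F), Fintype.card F = 2 ^ 2 ∧
      Nonempty (G ≃* Matrix.ProjectiveSpecialLinearGroup (Fin 2) F) := by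
  have hG := CfsgLib.Geo.PGLTwo.two_mul_card_psl (F := F) (Nat.odd_iff.2 (by omega))
  rw [← Nat.card_congr e.toEquiv] at hG
  have h1 : 1 < Fintype.card F := Fintype.one_lt_card
  obtain h3 | h5 : Fintype.card F = 3 ∨ Fintype.card F = 5 := by omega
  · rw [h3] at hG
    have h12 : Nat.card G = 2 ^ 2 * 3 ^ 1 := by omega
    exact absurd (CfsgLib.Burnside.isSolvable_of_card_eq Nat.prime_two Nat.prime_three h12)
      (not_solvable hna)
  · rw [h5] at hG
    have h60 : Nat.card G = 60 := by omega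
    haveI : Fintype (GaloisField 2 2) := Fintype.ofFinite _
    have hc : Fintype.card (GaloisField 2 2) = 2 ^ 2 := by
      rw [← Nat.card_eq_fintype_card, GaloisField.card 2 2 two_ne_zero]
    refine ⟨GaloisField 2 2, inferInstance, inferInstance, hc, ?_⟩
    haveI := CfsgLib.Classical.isSimpleGroup_PSL_two (F := GaloisField 2 2) (by rw [hc]; norm_num)
    have hP : Nat.card (Matrix.ProjectiveSpecialLinearGroup (Fin 2) (GaloisField 2 2)) = 60 := by
      have h := CfsgLib.Classical.Dickson.gcd_mul_card_psl (F := GaloisField 2 2) rfl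
      rw [hc] at h
      norm_num at h
      omega
    obtain ⟨a⟩ := CfsgLib.Recog.Sixty.iso_alt_five h60
    obtain ⟨b⟩ := CfsgLib.Recog.Sixty.iso_alt_five hP
    exact ⟨a.trans b.symm⟩

variable {H : Subgroup G} (hH : IsCCHall H)
include hH

/-- With a CC Sylow 2-subgroup and at most three class sizes, `G` is `PSL(2, 2^m)`. -/
theorem psl_of_cc_two (h2 : 2 ∣ Nat.card H) (hp : IsPGroup 2 H) {n1 n2 n3 : ℕ}
    (hval : ∀ x : G, x ≠ 1 → cI x = n1 ∨ cI x = n2 ∨ cI x = n3) :
    ∃ (m : ℕ) (F : Type) (_ : Field F) (_ : Fintype F), 2 ≤ m ∧ Fintype.card F = 2 ^ m ∧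
      Nonempty (G ≃* Matrix.ProjectiveSpecialLinearGroup (Fin 2) F) := by
  classical
  haveI : Fact (Nat.Prime 2) := ⟨Nat.prime_two⟩
  haveI := Fintype.ofFinite (G ⧸ normalizer (H : Set G))
  have hE := hH.embedded hna h2
  have hi := hH.two_le_invCount hna h2
  have hZ := hE.isZassenhaus hi (hH.comm_involutions hna h2) (hH.faithful hna)
  set o : G ⧸ normalizer (H : Set G) := ((1 : G) : G ⧸ normalizer (H : Set G))
  have hHa : H ≤ MulAction.stabilizer G o := fun a ha => hE.fix_of_inH (hE.inH_one.2 ha)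
  have hreg : ∀ y z : G ⧸ normalizer (H : Set G), y ≠ o → z ≠ o → ∃! u : H, (u : G) • y = z := by
    intro y z hy hz
    obtain ⟨a, ha, hay⟩ := hE.exists_ker hi hy hz
    refine ⟨⟨a, hE.inH_one.1 ha⟩, hay, fun b hb => Subtype.ext ?_⟩
    show (b : G) = a
    refine (inv_mul_eq_one.1 (hE.semireg (hE.inH_one.2 (mul_mem (inv_mem (hE.inH_one.1 ha)) b.2)) ?_ hy.symm)).symm
    rw [mul_smul, hb, ← hay, inv_smul_smul]
  rcases CfsgLib.Perm.zass_abelian_kernel_classify hZ o H hHa hH.comm hreg with ⟨h3, -⟩ | ⟨K, _, _, hK, ⟨e⟩⟩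
  · have hN : Fintype.card (G ⧸ normalizer (H : Set G)) = Nat.card H + 1 := by
      rw [← Nat.card_eq_fintype_card, hE.card_points hi]
    have hH2 : 2 ≤ Nat.card H := Nat.le_of_dvd Nat.card_pos h2
    haveI : MulAction.IsPretransitive G (Fin 3 ↪ G ⧸ normalizer (H : Set G)) := h3
    obtain ⟨t₀⟩ := Function.Embedding.nonempty_of_card_le (α := Fin 3) (β := G ⧸ normalizer (H : Set G))
      (by rw [Fintype.card_fin, hN]; omega)
    have hle := Nat.card_le_card_of_surjective (fun g : G => g • t₀) (fun t => MulAction.exists_smul_eq G t₀ t)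
    rw [Nat.card_eq_fintype_card (α := Fin 3 ↪ _), Fintype.card_embedding_eq, hN, Fintype.card_fin,
      hE.card_group hi] at hle
    obtain ⟨k, hk⟩ : ∃ k, Nat.card H = k + 1 := ⟨Nat.card H - 1, by omega⟩
    rw [hk] at hle
    simp only [Nat.descFactorial_succ, Nat.descFactorial_zero, mul_one, Nat.sub_zero] at hle
    have hle' : k ≤ hE.invCount := by
      have h' : (k + 1 + 1) * (k + 1) * k ≤ (k + 1 + 1) * (k + 1) * hE.invCount := by
        calc (k + 1 + 1) * (k + 1) * k = (k + 1 + 1 - 2) * ((k + 1 + 1 - 1) * (k + 1 + 1)) := by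
              rw [show k + 1 + 1 - 2 = k by omega, show k + 1 + 1 - 1 = k + 1 by omega]; ring
          _ ≤ _ := hle
          _ = _ := by ring
      exact Nat.le_of_mul_le_mul_left h' (by positivity)
    have hall : ∀ x ∈ H, x ≠ 1 → orderOf x = 2 := by
      have hf : Function.Surjective (fun t : {t : G // orderOf t = 2 ∧ t ∈ normalizer (H : Set G)} =>
          (⟨⟨t.1, hH.involution_mem h2 t.2.2 t.2.1⟩,
            fun e => Signalizer.involution_ne_one t.2.1 (congrArg Subtype.val e)⟩ : {x : H // x ≠ 1})) := by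
        have hinj : Function.Injective (fun t : {t : G // orderOf t = 2 ∧ t ∈ normalizer (H : Set G)} =>
            (⟨⟨t.1, hH.involution_mem h2 t.2.2 t.2.1⟩,
              fun e => Signalizer.involution_ne_one t.2.1 (congrArg Subtype.val e)⟩ : {x : H // x ≠ 1})) :=
          fun a b e => Subtype.ext (congrArg (fun r : {x : H // x ≠ 1} => ((r.1 : H) : G)) e)
        refine ((Nat.bijective_iff_injective_and_card _).2 ⟨hinj, le_antisymm
          (Nat.card_le_card_of_injective _ hinj) ?_⟩).2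
        show _ ≤ hE.invCount
        haveI := Fintype.ofFinite H
        rw [show Nat.card {x : H // x ≠ 1} = Nat.card H - 1 by
          simp [Nat.card_eq_fintype_card, Fintype.card_subtype_compl]]
        omega
      intro x hx hx1
      obtain ⟨⟨t, ht, htM⟩, he⟩ := hf ⟨⟨x, hx⟩, fun e => hx1 (congrArg Subtype.val e)⟩
      have h : t = x := congrArg (fun r : {x : H // x ≠ 1} => ((r.1 : H) : G)) he
      rw [← h]; exact ht
    have hsq : ∀ x ∈ H, x ^ 2 = 1 := fun x hx => by
      by_cases hx1 : x = 1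
      · rw [hx1, one_pow]
      · rw [← hall x hx hx1, pow_orderOf_eq_one]
    set T : Sylow 2 G := hp.toSylow (fun hd => Nat.prime_two.not_dvd_one (hH.hall ▸ Nat.dvd_gcd h2 hd))
    have hT : (T : Subgroup G) = H := rfl
    obtain ⟨s, t, hs, ht, hs2, ht2, hst⟩ := hH.exists_two_involutions hna h2
    have hnc : ¬ IsCyclic (T : Subgroup G) := by
      rw [hT]
      intro hc
      obtain ⟨⟨g, hgH⟩, hg⟩ := hc.exists_generator
      have hs' := hg ⟨s, hs⟩
      have ht' := hg ⟨t, ht⟩
      rw [mem_zpowers_iff] at hs' ht'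
      obtain ⟨a, ha⟩ := hs'
      obtain ⟨b, hb⟩ := ht'
      have hsmall : ∀ z : ℤ, g ^ z = 1 ∨ g ^ z = g := fun z => by
        rcases Int.even_or_odd z with ⟨w, rfl⟩ | ⟨w, rfl⟩
        · left; rw [← two_mul, zpow_mul, zpow_two, ← pow_two, hsq g hgH, one_zpow]
        · right; rw [zpow_add_one, zpow_mul, zpow_two, ← pow_two, hsq g hgH, one_zpow, one_mul]
      have ha' : g ^ a = s := congrArg Subtype.val ha
      have hb' : g ^ b = t := congrArg Subtype.val hb
      rcases hsmall a with h | h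
      · exact Signalizer.involution_ne_one hs2 (ha' ▸ h)
      rcases hsmall b with h' | h'
      · exact Signalizer.involution_ne_one ht2 (hb' ▸ h')
      exact hst (by rw [← ha', ← hb', h, h'])
    have hnn : ¬ (T : Subgroup G).Normal := fun hn => by
      rw [hT] at hn
      exact hH.normalizer_ne_top hna (normalizer_eq_top_iff.2 hn)
    have hC : ∀ u : G, orderOf u = 2 → IsMulCommutative (centralizer ({u} : Set G)) ∧
        ∀ c ∈ centralizer ({u} : Set G), c ^ 2 = 1 := by
      intro u hu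
      obtain ⟨P, hP⟩ := (IsPGroup.of_card (n := 1) (by rw [Nat.card_zpowers, hu, pow_one]) :
        IsPGroup 2 (zpowers u)).exists_le_sylow
      obtain ⟨g, hg⟩ := MulAction.exists_smul_eq G P T
      have huH : g * u * g⁻¹ ∈ H := by
        rw [← hT, ← hg, Sylow.coe_subgroup_smul, mem_pointwise_smul_iff_inv_smul_mem,
          show (MulAut.conj g)⁻¹ • (g * u * g⁻¹) = u from by
            rw [MulAut.smul_def, MulAut.conj_inv_apply]; group]
        exact hP (mem_zpowers u)
      have hne : g * u * g⁻¹ ≠ 1 := fun h => Signalizer.involution_ne_one hu (conj_eq_one_iff.1 h)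
      have hmem : ∀ c ∈ centralizer ({u} : Set G), g * c * g⁻¹ ∈ H := fun c hc =>
        hH.mem_of_commute huH hne (by
          show g * c * g⁻¹ * (g * u * g⁻¹) = g * u * g⁻¹ * (g * c * g⁻¹)
          rw [show g * c * g⁻¹ * (g * u * g⁻¹) = g * (c * u) * g⁻¹ by group,
            mem_centralizer_singleton_iff.1 hc]; group)
      refine ⟨⟨⟨fun a b => Subtype.ext ?_⟩⟩, fun c hc => ?_⟩
      · have h := hH.commute (hmem a a.2) (hmem b b.2)
        show (a : G) * b = b * a
        calc (a : G) * b = g⁻¹ * ((g * a * g⁻¹) * (g * b * g⁻¹)) * g := by group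
          _ = g⁻¹ * ((g * b * g⁻¹) * (g * a * g⁻¹)) * g := by rw [h]
          _ = b * a := by group
      · have h := hsq _ (hmem c hc)
        rw [conj_pow] at h
        exact conj_eq_one_iff.1 h
    obtain ⟨F, iF, iFt, hF, e⟩ := Cfsg.Agent.S1230.result T hnc hnn hC
    obtain ⟨n, hn⟩ := IsPGroup.iff_card.1 T.2
    refine ⟨n, F, iF, iFt, ?_, hF.trans hn, e⟩
    by_contra hcon
    refine hnc ?_
    rcases (show n = 0 ∨ n = 1 by omega) with rfl | rfl
    · haveI : Subsingleton (T : Subgroup G) := (Nat.card_eq_one_iff_unique.1 (by simpa using hn)).1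
      infer_instance
    · exact isCyclic_of_prime_card (p := 2) (by simpa using hn)
  · have hodd : ¬ 2 ∣ Fintype.card K := fun hd =>
      hK (FiniteField.even_card_iff_char_two.2 (Nat.mod_eq_zero_of_dvd hd))
    by_cases h7 : 7 ≤ Fintype.card K
    · exact (odd_psl_excluded hodd h7 e hval).elim
    · obtain ⟨F, iF, iFt, hF, e'⟩ := small_odd_psl hna hodd (by omega) e
      exact ⟨2, F, iF, iFt, le_rfl, hF, e'⟩

end CfsgLib.Recog.RankThree
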